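import Groth.Agent.NormalQuot.Sub
import Groth.Prelude.Def_AlgGrp
import Mathlib.AlgebraicGeometry.Group.Affine
import Mathlib.AlgebraicGeometry.Morphisms.ClosedImmersion
import Mathlib.AlgebraicGeometry.Morphisms.Flat
import Mathlib.AlgebraicGeometry.Pullbacks
import Mathlib.RingTheory.RingHom.FaithfullyFlat

/-!
# The quotient of an affine algebraic group scheme by a normal subgroup
-/

set_option autoImplicit false
set_option backward.isDefEq.respectTransparency.types false

universe u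

open CategoryTheory CategoryTheory.Limits MonoidalCategory CartesianMonoidalCategory MonObj AlgebraicGeometry
open WithConv TensorProduct

namespace Groth.Agent.NormalQuot

open Groth.Agent.HopfFF

/-- the affine group scheme of a Hopf algebra -/
noncomputable abbrev specGrp (k A : Type u) [CommRing k] [CommRing A] [HopfAlgebra k A] :
    Over (Spec (CommRingCat.of k)) :=
  (Spec (CommRingCat.of A)).asOver (Spec (CommRingCat.of k))

section Hom

variable {k A B : Type u} [CommRing k] [CommRing A] [HopfAlgebra k A] [CommRing B] [HopfAlgebra k B]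

/-- the morphism of groups given by a map of Hopf algebras -/
noncomputable def specHom (φ : A →ₐc[k] B) : specGrp k B ⟶ specGrp k A :=
  ((hopfSpec (CommRingCat.of k)).map (CommHopfAlgCat.ofHom φ).op).hom.hom

theorem isMonHom_specHom (φ : A →ₐc[k] B) : IsMonHom (specHom φ) :=
  ((hopfSpec (CommRingCat.of k)).map (CommHopfAlgCat.ofHom φ).op).hom.isMonHom_hom

theorem specHom_left (φ : A →ₐc[k] B) :
    (specHom φ).left = Spec.map (CommRingCat.ofHom ((φ : A →ₐ[k] B) : A →+* B)) := rfl

theorem specHom_eq (φ : A →ₐc[k] B) :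
    specHom φ = Spec.mapMulEquiv (R := k) (S := A) (T := B) (toConv (φ : A →ₐ[k] B)) :=
  Over.OverMorphism.ext rfl

theorem mapMulEquiv_comp_specHom {R : Type u} [CommRing R] [Algebra k R] (φ : A →ₐc[k] B)
    (x : WithConv (B →ₐ[k] R)) :
    Spec.mapMulEquiv (R := k) (S := B) (T := R) x ≫ specHom φ =
      Spec.mapMulEquiv (R := k) (S := A) (T := R) (toConv (x.ofConv.comp (φ : A →ₐ[k] B))) := by
  apply Over.OverMorphism.ext
  rw [Over.comp_left, specHom_left]
  exact (Spec.map_comp _ _).symm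

theorem exists_specHom (j : specGrp k B ⟶ specGrp k A) [IsMonHom j] :
    ∃ φ : A →ₐc[k] B, j = specHom φ := by
  let jG : Grp.mk (specGrp k B) ⟶ Grp.mk (specGrp k A) := Grp.homMk j
  let p := (hopfSpec.fullyFaithful (R := CommRingCat.of k)).preimage
    (X := Opposite.op (CommHopfAlgCat.of k B)) (Y := Opposite.op (CommHopfAlgCat.of k A)) jG
  exact ⟨p.unop.hom, (congrArg (fun z => z.hom.hom)
    ((hopfSpec.fullyFaithful (R := CommRingCat.of k)).map_preimage
      (X := Opposite.op (CommHopfAlgCat.of k B)) (Y := Opposite.op (CommHopfAlgCat.of k A)) jG)).symm⟩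

theorem surjective_of_isClosedImmersion (φ : A →ₐc[k] B) [h : IsClosedImmersion (specHom φ).left] :
    Function.Surjective φ := by
  have h' : IsClosedImmersion (Spec.map (CommRingCat.ofHom ((φ : A →ₐ[k] B) : A →+* B))) :=
    specHom_left φ ▸ h
  have hs := (IsClosedImmersion.isAffine_surjective_of_isAffine
    (Spec.map (CommRingCat.ofHom ((φ : A →ₐ[k] B) : A →+* B)))).2
  intro b
  obtain ⟨a, ha⟩ := hs ((Scheme.ΓSpecIso (CommRingCat.of B)).inv b)
  refine ⟨(Scheme.ΓSpecIso (CommRingCat.of A)).hom a, ?_⟩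
  have hn := ConcreteCategory.congr_hom
    (Scheme.ΓSpecIso_naturality (CommRingCat.ofHom ((φ : A →ₐ[k] B) : A →+* B))) a
  refine hn.symm.trans ?_
  refine (congrArg (Scheme.ΓSpecIso (CommRingCat.of B)).hom ha).trans ?_
  exact ConcreteCategory.congr_hom (Scheme.ΓSpecIso (CommRingCat.of B)).inv_hom_id b

end Hom

section Quotient

variable {k : Type u} [Field k] {A B : Type u} [CommRing A] [HopfAlgebra k A] [CommRing B] [HopfAlgebra k B]

theorem isNormal_ker_of_isNormalHom (φ : A →ₐc[k] B) (hφ : Function.Surjective φ)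
    (hN : AlgGrp.IsNormalHom (specHom φ)) :
    SGA3.IsNormalHopfIdeal k A (RingHom.ker (φ : A →ₐ[k] B)) := by
  intro R _ _ g h hh a ha
  rw [conv3_eq]
  let h' : B →ₐ[k] R := AlgHom.liftOfSurjective (φ : A →ₐ[k] B) hφ h hh
  have hh' : h'.comp (φ : A →ₐ[k] B) = h := AlgHom.ext fun x =>
    DFunLike.congr_fun (AlgHom.liftOfSurjective_comp (φ : A →ₐ[k] B) hφ h hh) x
  obtain ⟨n, hn⟩ := hN _ (Spec.mapMulEquiv (R := k) (S := A) (T := R) (toConv g))
    (Spec.mapMulEquiv (R := k) (S := B) (T := R) (toConv h'))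
  have hinv : (Spec.mapMulEquiv (R := k) (S := A) (T := R) (toConv g))⁻¹ =
      Spec.mapMulEquiv (R := k) (S := A) (T := R) (inv' (toConv g)) := by
    rw [inv_eq_iff_mul_eq_one, ← map_mul, mul_inv', map_one]
  obtain ⟨x, rfl⟩ := (Spec.mapMulEquiv (R := k) (S := B) (T := R)).surjective n
  rw [hinv, mapMulEquiv_comp_specHom, mapMulEquiv_comp_specHom, ← map_mul, ← map_mul] at hn
  have e := DFunLike.congr_fun (congrArg WithConv.ofConv
    ((Spec.mapMulEquiv (R := k) (S := A) (T := R)).injective hn)) a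
  change (toConv g * toConv h * inv' (toConv g)).ofConv a = 0
  rw [show h = h'.comp (φ : A →ₐ[k] B) from hh'.symm]
  refine e.trans ?_
  show x.ofConv (φ a) = 0
  rw [show φ a = 0 from ha, map_zero]

variable (φ : A →ₐc[k] B)

/-- the invariants of the kernel -/
theorem exists_quotient_hopf [Algebra.FiniteType k A] (hφ : Function.Surjective φ)
    (hN : SGA3.IsNormalHopfIdeal k A (RingHom.ker (φ : A →ₐ[k] B))) :
    ∃ (C : Type u) (_ : CommRing C) (_ : HopfAlgebra k C) (ψ : C →ₐc[k] A),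
      Algebra.FiniteType k C ∧ (ψ : C →+* A).FaithfullyFlat ∧
      RingHom.ker (φ : A →ₐ[k] B) = Ideal.span (ψ '' {c | Coalgebra.counit (R := k) c = 0}) := by
  classical
  haveI := isHopfIdeal_ker φ
  let I := RingHom.ker (φ : A →ₐ[k] B)
  have hI : IsConjStable k I := isConjStable_of_isNormal I hN
  have hB := isHopfSubalgebra_invQ I hI
  have hIspan : I = SGA3.augIdealSpan k A (invQ (k := k) I) := eq_augIdealSpan I hI
  haveI : IsNoetherianRing A := Algebra.FiniteType.isNoetherianRing k A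
  letI := hopfSub (invQ (k := k) I) hB
  obtain ⟨s, hs, hspan⟩ := Submodule.fg_span_iff_fg_span_finset_subset
    {a : A | a ∈ invQ (k := k) I ∧ Coalgebra.counit (R := k) a = 0} |>.1 (IsNoetherian.noetherian (R := A) (M := A) _)
  let s' : Finset (invQ (k := k) I) := s.attach.image fun a => ⟨a.1, (hs a.2).1⟩
  obtain ⟨n, π, hπ⟩ := exists_glHom_range k (invQ (k := k) I) s'
  haveI := finiteType_GLn (k := k) n
  let ρ : CoordGrp.GLn n k →ₐc[k] A := (valHom (invQ (k := k) I) hB).comp π
  let B' : Subalgebra k A := (ρ : CoordGrp.GLn n k →ₐ[k] A).range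
  have hB' : SGA3.IsHopfSubalgebra k A B' := by
    constructor
    · rintro b ⟨x, rfl⟩
      refine ⟨TensorProduct.map ((ρ : CoordGrp.GLn n k →ₐ[k] A).rangeRestrict.toLinearMap)
        ((ρ : CoordGrp.GLn n k →ₐ[k] A).rangeRestrict.toLinearMap) (Coalgebra.comul (R := k) x), ?_⟩
      rw [← LinearMap.comp_apply, ← TensorProduct.map_comp]
      exact CoalgHomClass.map_comp_comul_apply ρ x
    · rintro b ⟨x, rfl⟩
      exact ⟨HopfAlgebra.antipode k x, map_antipode ρ x⟩
  have hle : B' ≤ invQ (k := k) I := by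
    rintro b ⟨x, rfl⟩
    exact (π x).2
  have hI' : I = SGA3.augIdealSpan k A B' := by
    refine le_antisymm ?_ ?_
    · rw [hIspan, SGA3.augIdealSpan]
      refine le_trans (le_of_eq hspan) (Ideal.span_mono fun a ha => ⟨?_, (hs ha).2⟩)
      obtain ⟨x, hx⟩ := hπ ⟨a, (hs ha).1⟩ (Finset.mem_image.2 ⟨⟨a, ha⟩, Finset.mem_attach _ _, rfl⟩)
      exact ⟨x, congrArg Subtype.val hx⟩
    · rw [hIspan, SGA3.augIdealSpan, SGA3.augIdealSpan]
      exact Ideal.span_mono fun a ha => ⟨hle ha.1, ha.2⟩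
  have heq : B' = invQ (k := k) I := eq_invQ_of_augIdealSpan_eq I hB' hI hI'
  refine ⟨invQ (k := k) I, inferInstance, inferInstance, valHom _ hB, ?_, ?_, ?_⟩
  · haveI : Algebra.FiniteType k B' := Algebra.FiniteType.of_surjective
      (ρ : CoordGrp.GLn n k →ₐ[k] A).rangeRestrict (AlgHom.rangeRestrict_surjective _)
    exact Algebra.FiniteType.of_surjective (Subalgebra.equivOfEq _ _ heq).toAlgHom
      (Subalgebra.equivOfEq _ _ heq).surjective
  · exact RingHom.faithfullyFlat_algebraMap_iff.2 (faithfullyFlat_sub _ hB)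
  · show I = _
    refine hIspan.trans ?_
    rw [SGA3.augIdealSpan]
    congr 1
    ext a
    constructor
    · rintro ⟨ha, h0⟩; exact ⟨⟨a, ha⟩, h0, rfl⟩
    · rintro ⟨⟨a', ha'⟩, h0, rfl⟩; exact ⟨ha', h0⟩

theorem isPushout_of_ker {C : Type u} [CommRing C] [HopfAlgebra k C] (ψ : C →ₐc[k] A)
    (hφ : Function.Surjective φ)
    (hker : RingHom.ker (φ : A →ₐ[k] B) = Ideal.span (ψ '' {c | Coalgebra.counit (R := k) c = 0})) :
    IsPushout (CommRingCat.ofHom ((ψ : C →ₐ[k] A) : C →+* A))
      (CommRingCat.ofHom ((Bialgebra.counitAlgHom k C) : C →+* k))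
      (CommRingCat.ofHom ((φ : A →ₐ[k] B) : A →+* B)) (CommRingCat.ofHom (algebraMap k B)) := by
  have hψ : ∀ c : C, φ (ψ c) = algebraMap k B (Coalgebra.counit (R := k) c) := by
    intro c
    have : φ (ψ (c - algebraMap k C (Coalgebra.counit (R := k) c))) = 0 := by
      show ψ _ ∈ RingHom.ker (φ : A →ₐ[k] B)
      rw [hker]
      exact Ideal.subset_span ⟨_, by simp, rfl⟩
    rw [map_sub, map_sub, sub_eq_zero, AlgHomClass.commutes ψ, AlgHomClass.commutes φ] at this
    exact this
  refine IsPushout.mk' (CommRingCat.hom_ext (RingHom.ext hψ)) (fun T f f' h1 h2 => ?_) fun T a b hab => ?_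
  · refine CommRingCat.hom_ext (RingHom.ext fun x => ?_)
    obtain ⟨x, rfl⟩ := hφ x
    exact DFunLike.congr_fun (congrArg CommRingCat.Hom.hom h1) x
  · have hw : ∀ c : C, a.hom (ψ c) = b.hom (Coalgebra.counit (R := k) c) := fun c =>
      DFunLike.congr_fun (congrArg CommRingCat.Hom.hom hab) c
    have hle : RingHom.ker ((φ : A →ₐ[k] B) : A →+* B) ≤ RingHom.ker a.hom := by
      refine le_trans (le_of_eq hker) (Ideal.span_le.2 ?_)
      rintro _ ⟨c, hc, rfl⟩
      show a.hom (ψ c) = 0
      rw [hw, show Coalgebra.counit (R := k) c = 0 from hc, map_zero]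
    let l : B →+* T := RingHom.liftOfSurjective ((φ : A →ₐ[k] B) : A →+* B) hφ ⟨a.hom, hle⟩
    have hl : ∀ x : A, l (φ x) = a.hom x := fun x =>
      RingHom.liftOfSurjective_comp_apply ((φ : A →ₐ[k] B) : A →+* B) hφ ⟨a.hom, hle⟩ x
    refine ⟨CommRingCat.ofHom l, CommRingCat.hom_ext (RingHom.ext hl), CommRingCat.hom_ext (RingHom.ext fun r => ?_)⟩
    have h2 := hw (algebraMap k C r)
    rw [AlgHomClass.commutes, Bialgebra.counit_algebraMap] at h2
    show l (algebraMap k B r) = b.hom r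
    rw [← h2, ← hl, AlgHomClass.commutes φ]

theorem isKernel_specHom {C : Type u} [CommRing C] [HopfAlgebra k C] (ψ : C →ₐc[k] A)
    (hφ : Function.Surjective φ)
    (hker : RingHom.ker (φ : A →ₐ[k] B) = Ideal.span (ψ '' {c | Coalgebra.counit (R := k) c = 0})) :
    AlgGrp.IsKernel (specHom φ) (specHom ψ) := by
  refine IsPullback.of_map (Over.forget _) (Over.OverMorphism.ext ?_) ?_
  · exact ((isPullback_SpecMap_of_isPushout _ _ _ _ (isPushout_of_ker φ ψ hφ hker))).w
  · exact isPullback_SpecMap_of_isPushout _ _ _ _ (isPushout_of_ker φ ψ hφ hker)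

end Quotient

/-- an affine algebraic group scheme has an affine faithfully flat quotient by a normal subgroup -/
theorem exists_quotient {k : Type u} [Field k] (G N : Over (Spec (CommRingCat.of k))) [GrpObj G] [GrpObj N]
    [IsAffine G.left] [LocallyOfFiniteType G.hom] (i : N ⟶ G) [IsMonHom i] [IsClosedImmersion i.left]
    (hN : AlgGrp.IsNormalHom i) :
    ∃ (Q : Over (Spec (CommRingCat.of k))) (_ : GrpObj Q) (q : G ⟶ Q), IsMonHom q ∧ IsAffine Q.left ∧
      LocallyOfFiniteType Q.hom ∧ Flat q.left ∧ Surjective q.left ∧ AlgGrp.IsKernel i q := by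
  have : IsAffine N.left := isAffine_of_isAffineHom i.left
  obtain ⟨⟨HA⟩, ⟨eA⟩⟩ := (essImage_hopfSpec (G := Grp.mk G)).2 ‹_›
  obtain ⟨⟨HB⟩, ⟨eB⟩⟩ := (essImage_hopfSpec (G := Grp.mk N)).2 ‹_›
  let iA : specGrp k HA ≅ G := ⟨eA.hom.hom.hom, eA.inv.hom.hom,
    congrArg (fun z => z.hom.hom) eA.hom_inv_id, congrArg (fun z => z.hom.hom) eA.inv_hom_id⟩
  let iB : specGrp k HB ≅ N := ⟨eB.hom.hom.hom, eB.inv.hom.hom,
    congrArg (fun z => z.hom.hom) eB.hom_inv_id, congrArg (fun z => z.hom.hom) eB.inv_hom_id⟩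
  have : IsMonHom iA.hom := eA.hom.hom.isMonHom_hom
  have : IsMonHom iA.inv := eA.inv.hom.isMonHom_hom
  have : IsMonHom iB.hom := eB.hom.hom.isMonHom_hom
  have : IsMonHom iB.inv := eB.inv.hom.isMonHom_hom
  have : IsIso iA.hom.left := ((Over.forget _).mapIso iA).isIso_hom
  have : IsIso iA.inv.left := ((Over.forget _).mapIso iA).isIso_inv
  have : IsIso iB.hom.left := ((Over.forget _).mapIso iB).isIso_hom
  obtain ⟨φ, hφ⟩ := exists_specHom (iB.hom ≫ i ≫ iA.inv)
  have hci : IsClosedImmersion (specHom φ).left := by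
    rw [← hφ, Over.comp_left, Over.comp_left]; infer_instance
  have hsurj := surjective_of_isClosedImmersion φ
  have hNφ : AlgGrp.IsNormalHom (specHom φ) := by
    intro T g n
    obtain ⟨n', hn'⟩ := hN T (g ≫ iA.hom) (n ≫ iB.hom)
    refine ⟨n' ≫ iB.inv, ?_⟩
    have h := congrArg (fun z => z ≫ iA.inv) hn'
    simp only [MonObj.mul_comp, GrpObj.inv_comp, Category.assoc] at h
    simpa [← hφ] using h
  haveI : Algebra.FiniteType k HA := by
    have hw : Spec.map (CommRingCat.ofHom (algebraMap k HA)) = iA.hom.left ≫ G.hom := (Over.w iA.hom).symm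
    have h : LocallyOfFiniteType (Spec.map (CommRingCat.ofHom (algebraMap k HA))) := by
      rw [hw]
      exact (MorphismProperty.cancel_left_of_respectsIso @LocallyOfFiniteType iA.hom.left G.hom).2 ‹_›
    exact RingHom.finiteType_algebraMap.1 ((HasRingHomProperty.Spec_iff (P := @LocallyOfFiniteType)).1 h)
  obtain ⟨C, _, _, ψ, hC, hff, hker⟩ :=
    exists_quotient_hopf φ hsurj (isNormal_ker_of_isNormalHom φ hsurj hNφ)
  have : IsMonHom (specHom ψ) := isMonHom_specHom ψ
  refine ⟨specGrp k C, inferInstance, iA.inv ≫ specHom ψ, inferInstance, inferInstanceAs (IsAffine (Spec _)),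
    inferInstanceAs (LocallyOfFiniteType (Spec (CommRingCat.of C) ↘ Spec (CommRingCat.of k))), ?_, ?_, ?_⟩
  · have : Flat (specHom ψ).left := by
      rw [specHom_left]; exact Flat.SpecMap_iff.2 hff.flat
    rw [Over.comp_left]; infer_instance
  · have : Surjective (specHom ψ).left := by
      rw [specHom_left]
      exact ⟨fun x => by
        obtain ⟨y, hy⟩ := (RingHom.FaithfullyFlat.iff_flat_and_comap_surjective.1 hff).2 x
        exact ⟨y, hy⟩⟩
    rw [Over.comp_left]; infer_instance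
  · refine IsPullback.of_iso (isKernel_specHom φ ψ hsurj hker) iB iA (Iso.refl _) (Iso.refl _) ?_ ?_ ?_ ?_
    · rw [← hφ]; simp
    · exact (toUnit_unique _ _)
    · simp
    · simp

end Groth.Agent.NormalQuot
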