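import Groth.Agent.NormalQuot.Main
import Groth.Agent.HopfFF.Union
import Groth.Agent.HopfFF.ExactSeq

/-!
# The quotient Hopf algebra of a normal subgroup
-/

set_option autoImplicit false
universe u v

open TensorProduct WithConv

namespace Groth.Agent.NormalQuot

open Groth.Agent.HopfFF Groth.Agent.Comod

variable {k : Type u} [Field k] {A : Type u} [CommRing A] [HopfAlgebra k A]

section Sub

variable (B : Subalgebra k A) (hB : SGA3.IsHopfSubalgebra k A B)

omit [HopfAlgebra k A] in
theorem map_val_injective {A : Type u} [CommRing A] [Algebra k A] (B : Subalgebra k A) :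
    Function.Injective (TensorProduct.map B.val.toLinearMap B.val.toLinearMap) := by
  rw [← LinearMap.lTensor_comp_rTensor]
  exact (Module.Flat.lTensor_preserves_injective_linearMap _ Subtype.val_injective).comp
    (Module.Flat.rTensor_preserves_injective_linearMap _ Subtype.val_injective)

/-- the comultiplication of a Hopf subalgebra -/
noncomputable def comulSub : B →ₐ[k] B ⊗[k] B :=
  (AlgEquiv.ofInjective (Algebra.TensorProduct.map B.val B.val) (map_val_injective B)).symm.toAlgHom.comp
    (((Bialgebra.comulAlgHom k A).comp B.val).codRestrict (Algebra.TensorProduct.map B.val B.val).range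
      fun b => by
        obtain ⟨y, hy⟩ := hB.1 b b.2
        exact ⟨y, hy⟩)

theorem map_comulSub (b : B) :
    TensorProduct.map B.val.toLinearMap B.val.toLinearMap (comulSub B hB b) = Coalgebra.comul (R := k) (b : A) :=
  congrArg Subtype.val
    ((AlgEquiv.ofInjective (Algebra.TensorProduct.map B.val B.val) (map_val_injective B)).apply_symm_apply _)

/-- the bialgebra structure of a Hopf subalgebra -/
@[implicit_reducible] noncomputable def bialgebraSub : Bialgebra k B := by
  refine Bialgebra.ofAlgHom (comulSub B hB) ((Bialgebra.counitAlgHom k A).comp B.val) ?_ ?_ ?_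
  · refine AlgHom.ext fun b => ?_
    let v : B →ₗ[k] A := B.val.toLinearMap
    have hinj : Function.Injective (TensorProduct.map v (TensorProduct.map v v)) := by
      rw [← LinearMap.lTensor_comp_rTensor]
      exact (Module.Flat.lTensor_preserves_injective_linearMap _ (map_val_injective B)).comp
        (Module.Flat.rTensor_preserves_injective_linearMap _ Subtype.val_injective)
    apply hinj
    have e1 : ∀ z : B ⊗[k] B, TensorProduct.map v (TensorProduct.map v v)
        ((Algebra.TensorProduct.assoc k k k B B B) (Algebra.TensorProduct.map (comulSub B hB) (AlgHom.id k B) z)) =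
        TensorProduct.assoc k A A A ((Coalgebra.comul (R := k)).rTensor A (TensorProduct.map v v z)) := by
      intro z
      induction z with
      | zero => simp
      | add y z hy hz => simp only [map_add, hy, hz]
      | tmul p q =>
        rw [TensorProduct.map_tmul, LinearMap.rTensor_tmul, show v p = (p : A) from rfl, ← map_comulSub B hB p,
          Algebra.TensorProduct.map_tmul]
        generalize comulSub B hB p = y
        induction y with
        | zero => simp
        | tmul r s => simp [v]
        | add y z hy hz => simp only [add_tmul, map_add, hy, hz]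
    have e2 : ∀ z : B ⊗[k] B, TensorProduct.map v (TensorProduct.map v v)
        (Algebra.TensorProduct.map (AlgHom.id k B) (comulSub B hB) z) =
        (Coalgebra.comul (R := k)).lTensor A (TensorProduct.map v v z) := by
      intro z
      induction z with
      | zero => simp
      | add y z hy hz => simp only [map_add, hy, hz]
      | tmul p q =>
        rw [TensorProduct.map_tmul, LinearMap.lTensor_tmul, show v q = (q : A) from rfl, ← map_comulSub B hB q,
          Algebra.TensorProduct.map_tmul, TensorProduct.map_tmul]
        rfl
    have h3 : TensorProduct.map v v (comulSub B hB b) = Coalgebra.comul (R := k) (b : A) := map_comulSub B hB b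
    refine (e1 _).trans (Eq.trans ?_ (e2 _).symm)
    exact (congrArg (fun w => TensorProduct.assoc k A A A ((Coalgebra.comul (R := k)).rTensor A w)) h3).trans
      ((Coalgebra.coassoc_apply (b : A)).trans
        (congrArg (fun w => (Coalgebra.comul (R := k)).lTensor A w) h3).symm)
  · refine AlgHom.ext fun b => ?_
    have hinj : Function.Injective (B.val.toLinearMap.lTensor k) :=
      Module.Flat.lTensor_preserves_injective_linearMap _ Subtype.val_injective
    apply hinj
    have e : ∀ z : B ⊗[k] B, B.val.toLinearMap.lTensor k
        (Algebra.TensorProduct.map ((Bialgebra.counitAlgHom k A).comp B.val) (AlgHom.id k B) z) =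
        (Coalgebra.counit (R := k) (A := A)).rTensor A (TensorProduct.map B.val.toLinearMap B.val.toLinearMap z) := by
      intro z
      induction z with
      | zero => simp
      | tmul p q => simp
      | add y z hy hz => simp only [map_add, hy, hz]
    refine (e _).trans ((congrArg _ (map_comulSub B hB b)).trans ?_)
    rw [Coalgebra.rTensor_counit_comul]
    simp
  · refine AlgHom.ext fun b => ?_
    have hinj : Function.Injective (B.val.toLinearMap.rTensor k) :=
      Module.Flat.rTensor_preserves_injective_linearMap _ Subtype.val_injective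
    apply hinj
    have e : ∀ z : B ⊗[k] B, B.val.toLinearMap.rTensor k
        (Algebra.TensorProduct.map (AlgHom.id k B) ((Bialgebra.counitAlgHom k A).comp B.val) z) =
        (Coalgebra.counit (R := k) (A := A)).lTensor A (TensorProduct.map B.val.toLinearMap B.val.toLinearMap z) := by
      intro z
      induction z with
      | zero => simp
      | tmul p q => simp
      | add y z hy hz => simp only [map_add, hy, hz]
    refine (e _).trans ((congrArg _ (map_comulSub B hB b)).trans ?_)
    rw [Coalgebra.lTensor_counit_comul]
    simp

/-- the Hopf algebra structure of a Hopf subalgebra -/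
@[implicit_reducible] noncomputable def hopfSub : HopfAlgebra k B :=
  letI := bialgebraSub B hB
  HopfAlgebra.ofAlgHom
    (((HopfAlgebra.antipodeAlgHom k A).comp B.val).codRestrict B fun b => hB.2 b b.2)
    (AlgHom.ext fun b => Subtype.val_injective (by
      have h := HopfAlgebra.mul_antipode_rTensor_comul_apply (R := k) (b : A)
      refine Eq.trans ?_ h
      show (Algebra.TensorProduct.lift _ _ (fun _ _ => Commute.all _ _) (comulSub B hB b) : B).1 = _
      rw [← map_comulSub B hB b]
      generalize comulSub B hB b = z
      induction z with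
      | zero => simp
      | tmul p q => simp
      | add y z hy hz => simp only [map_add, Subalgebra.coe_add, hy, hz]))
    (AlgHom.ext fun b => Subtype.val_injective (by
      have h := HopfAlgebra.mul_antipode_lTensor_comul_apply (R := k) (b : A)
      refine Eq.trans ?_ h
      show (Algebra.TensorProduct.lift _ _ (fun _ _ => Commute.all _ _) (comulSub B hB b) : B).1 = _
      rw [← map_comulSub B hB b]
      generalize comulSub B hB b = z
      induction z with
      | zero => simp
      | tmul p q => simp
      | add y z hy hz => simp only [map_add, Subalgebra.coe_add, hy, hz]))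

/-- the inclusion of a Hopf subalgebra -/
noncomputable def valHom : letI := hopfSub B hB; B →ₐc[k] A :=
  letI := hopfSub B hB
  BialgHom.ofAlgHom B.val rfl (AlgHom.ext fun b => map_comulSub B hB b)

theorem valHom_injective : letI := hopfSub B hB; Function.Injective (valHom B hB) :=
  fun _ _ h => Subtype.val_injective h

include hB in
theorem faithfullyFlat_sub : Module.FaithfullyFlat B A := by
  letI := hopfSub B hB
  have h := faithfullyFlat_of_injective' (valHom B hB) (valHom_injective B hB)
  exact RingHom.faithfullyFlat_algebraMap_iff.1 h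

end Sub

variable (I : Ideal A) [I.IsHopfIdeal k]

theorem comul_mem_range (hI : IsConjStable k I) {q : A} (hq : q ∈ invQ (k := k) I) :
    Coalgebra.comul (R := k) q ∈ LinearMap.range
      (TensorProduct.map (invQ (k := k) I).val.toLinearMap (invQ (k := k) I).val.toLinearMap) := by
  have h1 : Coalgebra.comul (R := k) q ∈ LinearMap.range ((semi (k := k) I 1).subtype.rTensor A) :=
    semi_le_of_weight I (χ := 1) hI (by rw [map_one, Algebra.TensorProduct.one_def]) q ((mem_invQ I).1 hq)
  obtain ⟨y, hy⟩ := h1
  let L : A →ₗ[k] A ⊗[k] (A ⧸ I) := (coactR (k := k) I).toLinearMap - (TensorProduct.mk k A (A ⧸ I)).flip 1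
  have hex : Function.Exact (semi (k := k) I 1).subtype L :=
    LinearMap.exact_iff.2 (Submodule.range_subtype _).symm
  have h2 : L.lTensor A (Coalgebra.comul (R := k) q) = 0 := by
    rw [LinearMap.lTensor_sub, LinearMap.sub_apply, sub_eq_zero]
    set π : A →ₗ[k] A ⧸ I := (Ideal.Quotient.mkₐ k I).toLinearMap
    have hq' := (mem_semi I).1 ((mem_invQ I).1 hq)
    rw [coactR_apply] at hq'
    have e1 : ∀ z : A ⊗[k] A, (coactR (k := k) I).toLinearMap.lTensor A z =
        (π.lTensor A).lTensor A ((Coalgebra.comul (R := k)).lTensor A z) := by
      intro z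
      induction z with
      | zero => simp
      | tmul p r => simp [coactR_apply, π]
      | add y z hy hz => simp only [map_add, hy, hz]
    have e2 : ∀ z : A ⊗[k] A,
        (π.lTensor A).lTensor A (TensorProduct.assoc k A A A ((Coalgebra.comul (R := k)).rTensor A z)) =
          TensorProduct.assoc k A A (A ⧸ I) ((Coalgebra.comul (R := k)).rTensor (A ⧸ I) (π.lTensor A z)) := by
      intro z
      induction z with
      | zero => simp
      | tmul p r =>
        simp only [LinearMap.rTensor_tmul, LinearMap.lTensor_tmul]
        generalize Coalgebra.comul (R := k) p = y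
        induction y with
        | zero => simp
        | tmul a b => simp
        | add y z hy hz => simp only [add_tmul, map_add, hy, hz]
      | add y z hy hz => simp only [map_add, hy, hz]
    rw [e1, ← Coalgebra.coassoc_apply, e2, hq', LinearMap.rTensor_tmul]
    generalize Coalgebra.comul (R := k) q = z
    induction z with
    | zero => simp
    | tmul p r => simp
    | add y z hy hz => simp only [add_tmul, map_add, hy, hz]
  have h3 : L.lTensor (semi (k := k) I 1) y = 0 := by
    apply Module.Flat.rTensor_preserves_injective_linearMap (M := A ⊗[k] (A ⧸ I)) _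
      (semi (k := k) I 1).injective_subtype
    rw [map_zero, ← h2, ← hy]
    rw [← LinearMap.comp_apply, ← LinearMap.comp_apply, LinearMap.rTensor_comp_lTensor, LinearMap.lTensor_comp_rTensor]
  obtain ⟨z, rfl⟩ := (Module.Flat.lTensor_exact (semi (k := k) I 1) hex y).1 h3
  let ι : semi (k := k) I 1 →ₗ[k] invQ (k := k) I :=
    { toFun := fun x => ⟨x, (mem_invQ I).2 x.2⟩
      map_add' := fun _ _ => rfl
      map_smul' := fun _ _ => rfl }
  refine ⟨TensorProduct.map ι ι z, ?_⟩
  rw [← hy]
  clear h3 hy
  induction z with
  | zero => simp
  | tmul p r => simp [ι]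
  | add y z hy hz => simp only [map_add, hy, hz]

theorem left_invariant_aux (hI : IsConjStable k I) {q : A} (hq : q ∈ invQ (k := k) I) {T : Type*} [CommRing T]
    [Algebra k T] (hL : A ⧸ I →ₐ[k] T) (g : A →ₐ[k] T) : (ofQuot I hL * toConv g).ofConv q = g q := by
  have h := semi_translate I hI (χ := 1) (by rw [map_one, Algebra.TensorProduct.one_def]) ((mem_invQ I).1 hq)
    (1 : WithConv (A →ₐ[k] T)) hL g
  rw [one_mul, one_mul, map_one, mul_one] at h
  exact h

/-- invariants are invariant on the other side -/
theorem left_invariant (hI : IsConjStable k I) {q : A} (hq : q ∈ invQ (k := k) I) :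
    (Ideal.Quotient.mkₐ k I).toLinearMap.rTensor A (Coalgebra.comul (R := k) q) = (1 : A ⧸ I) ⊗ₜ[k] q := by
  have h := left_invariant_aux (T := (A ⧸ I) ⊗[k] A) I hI hq Algebra.TensorProduct.includeLeft
    Algebra.TensorProduct.includeRight
  refine Eq.trans ?_ h
  rw [AlgHom.convMul_apply]
  generalize Coalgebra.comul (R := k) q = z
  induction z with
  | zero => simp
  | tmul p r => simp [ofQuot]
  | add y z hy hz => simp only [map_add, hy, hz]

theorem antipode_mem (hI : IsConjStable k I) {q : A} (hq : q ∈ invQ (k := k) I) :
    HopfAlgebraStruct.antipode k q ∈ invQ (k := k) I := by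
  rw [mem_invQ, mem_semi, coactR_apply, Groth.Agent.HopfLib.comul_antipode]
  have h := congrArg (fun z => TensorProduct.map (HopfAlgebraStruct.antipode k (A := A))
    (HopfAlgebraStruct.antipode k (A := A ⧸ I)) (TensorProduct.comm k (A ⧸ I) A z)) (left_invariant I hI hq)
  simp only [TensorProduct.comm_tmul, TensorProduct.map_tmul, HopfAlgebra.antipode_one] at h
  refine Eq.trans ?_ h
  generalize Coalgebra.comul (R := k) q = z
  induction z with
  | zero => simp
  | tmul p r =>
    simp only [TensorProduct.comm_tmul, TensorProduct.map_tmul, LinearMap.lTensor_tmul, LinearMap.rTensor_tmul]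
    congr 1
  | add y z hy hz => simp only [map_add, hy, hz]

theorem isHopfSubalgebra_invQ (hI : IsConjStable k I) : SGA3.IsHopfSubalgebra k A (invQ (k := k) I) :=
  ⟨fun _ hb => comul_mem_range I hI hb, fun _ hb => antipode_mem I hI hb⟩

/-- a Hopf subalgebra consists of all invariants of the subgroup it cuts out -/
theorem eq_invQ_of_augIdealSpan_eq {B : Subalgebra k A} (hB : SGA3.IsHopfSubalgebra k A B)
    (hI : IsConjStable k I) (h : I = SGA3.augIdealSpan k A B) : B = invQ (k := k) I := by
  classical
  letI := hopfSub B hB
  haveI := faithfullyFlat_sub B hB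
  let ψ := Bialgebra.Quotient.mkBialgHom (R := k) I
  have hker : RingHom.ker (ψ : A →ₐ[k] A ⧸ I) =
      Ideal.map ((valHom B hB : B →ₐc[k] A) : B →ₐ[k] A) (RingHom.ker (Bialgebra.counitAlgHom k B)) := by
    have h1 : RingHom.ker (ψ : A →ₐ[k] A ⧸ I) = I := Ideal.mk_ker
    rw [h1, h, Ideal.map, SGA3.augIdealSpan]
    congr 1
    ext a
    constructor
    · rintro ⟨ha, h0⟩; exact ⟨⟨a, ha⟩, h0, rfl⟩
    · rintro ⟨⟨a', ha'⟩, h0, rfl⟩; exact ⟨ha', h0⟩
  refine SetLike.ext fun a => ⟨fun ha => ?_, fun ha => ?_⟩
  · rw [mem_invQ, mem_semi, coactR_apply]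
    obtain ⟨y, hy⟩ := hB.1 a ha
    have hπ : ∀ b : B, Ideal.Quotient.mk I (b : A) = Coalgebra.counit (R := k) (b : A) • (1 : A ⧸ I) := by
      intro b
      rw [← map_one (Ideal.Quotient.mk I), Algebra.smul_def, ← Ideal.Quotient.mk_algebraMap, ← map_mul, mul_one,
        Ideal.Quotient.eq, h]
      exact Ideal.subset_span ⟨sub_mem b.2 (B.algebraMap_mem _), by simp⟩
    have h2 := Coalgebra.lTensor_counit_comul (R := k) a
    rw [← hy] at h2 ⊢
    have e : ∀ z : B ⊗[k] B, (Ideal.Quotient.mkₐ k I).toLinearMap.lTensor A
        (TensorProduct.map B.val.toLinearMap B.val.toLinearMap z) =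
        (TensorProduct.rid k A ((Coalgebra.counit (R := k) (A := A)).lTensor A
          (TensorProduct.map B.val.toLinearMap B.val.toLinearMap z))) ⊗ₜ[k] (1 : A ⧸ I) := by
      intro z
      induction z with
      | zero => simp
      | tmul p r => simp [hπ, TensorProduct.smul_tmul]
      | add y z hy hz => simp only [map_add, add_tmul, hy, hz]
    rw [e, h2]
    simp
  · obtain ⟨b, hb⟩ := HopfFF.mem_range_of_mu_eq (valHom B hB) (fun _ => rfl) ψ hker
      Ideal.Quotient.mk_surjective (a := a) (by
        rw [HopfFF.mu_apply]
        refine (congrArg (TensorProduct.comm k (A ⧸ I) A) (left_invariant I hI ha)).trans ?_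
        simp)
    exact hb ▸ b.2

end Groth.Agent.NormalQuot
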