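import Groth.Agent.NormalQuot.Data
import Groth.Agent.LinRed.Units
import Groth.Agent.LinRed.HopfReduced
import Mathlib.Algebra.CharP.Lemmas
import Mathlib.Algebra.CharP.Algebra

/-!
# A normal subgroup is cut out by invariant functions (algebraically closed ground field)
-/

set_option autoImplicit false
universe u v

open TensorProduct WithConv

namespace Groth.Agent.NormalQuot

open Groth.Agent.HopfFF Groth.Agent.Comod

variable {k : Type u} [Field k] {A : Type u} [CommRing A] [HopfAlgebra k A] (I : Ideal A) [I.IsHopfIdeal k]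
  (hI : IsConjStable k I)

/-- the rational point as a point with values in an algebra -/
noncomputable def constPt (T : Type v) [CommRing T] [Algebra k T] (γ : WithConv (A →ₐ[k] k)) :
    WithConv (A →ₐ[k] T) :=
  FinHopf.postComp (Algebra.ofId k T) γ

omit [I.IsHopfIdeal k] in
theorem postComp_constPt {T : Type v} [CommRing T] [Algebra k T] {T' : Type*} [CommRing T'] [Algebra k T']
    (φ : T →ₐ[k] T') (γ : WithConv (A →ₐ[k] k)) :
    FinHopf.postComp φ (constPt T γ) = FinHopf.postComp (Algebra.ofId k T') γ :=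
  WithConv.ofConv_injective (AlgHom.ext fun a => φ.commutes _)

/-- conjugation of functions by a rational point -/
noncomputable def conjG (γ : WithConv (A →ₐ[k] k)) : A →ₐ[k] A :=
  (inv' (constPt A γ) * toConv (AlgHom.id k A) * constPt A γ).ofConv

/-- conjugation of functions on the subgroup by a rational point -/
noncomputable def conjN (γ : WithConv (A →ₐ[k] k)) : A ⧸ I →ₐ[k] A ⧸ I :=
  (Algebra.TensorProduct.lift (AlgHom.id k (A ⧸ I)) ((Algebra.ofId k (A ⧸ I)).comp γ.ofConv)
    fun _ _ => Commute.all _ _).comp (Ideal.Quotient.liftₐ I (conjPt (k := k) I).ofConv hI)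

omit [I.IsHopfIdeal k] in
theorem conjN_mk (γ : WithConv (A →ₐ[k] k)) (a : A) :
    conjN I hI γ (Ideal.Quotient.mk I a) = Ideal.Quotient.mk I (conjG γ a) := by
  have h := DFunLike.congr_fun (congrArg WithConv.ofConv
    (postComp_conjPt I (AlgHom.id k (A ⧸ I)) ((Algebra.ofId k (A ⧸ I)).comp γ.ofConv))) a
  refine Eq.trans (show _ = _ from h) ?_
  have h2 : FinHopf.postComp (C := A) (Ideal.Quotient.mkₐ k I) (toConv (conjG γ)) =
      inv' (toConv ((Algebra.ofId k (A ⧸ I)).comp γ.ofConv)) * ofQuot I (AlgHom.id k (A ⧸ I)) *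
        toConv ((Algebra.ofId k (A ⧸ I)).comp γ.ofConv) := by
    rw [show toConv (conjG γ) = inv' (constPt A γ) * toConv (AlgHom.id k A) * constPt A γ from rfl, map_mul, map_mul,
      postComp_inv', postComp_constPt]
    rfl
  exact (DFunLike.congr_fun (congrArg WithConv.ofConv h2) a).symm

omit [I.IsHopfIdeal k] in
theorem conjG_comp (γ δ : WithConv (A →ₐ[k] k)) : (conjG δ).comp (conjG γ) = conjG (δ * γ) := by
  have h : FinHopf.postComp (C := A) (conjG δ) (toConv (conjG γ)) = toConv (conjG (δ * γ)) := by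
    rw [show toConv (conjG γ) = inv' (constPt A γ) * toConv (AlgHom.id k A) * constPt A γ from rfl, map_mul, map_mul,
      postComp_inv', postComp_constPt,
      show FinHopf.postComp (C := A) (conjG δ) (toConv (AlgHom.id k A)) =
        inv' (constPt A δ) * toConv (AlgHom.id k A) * constPt A δ from rfl]
    have hinv : inv' (constPt A (δ * γ)) = inv' (constPt A γ) * inv' (constPt A δ) := by
      refine left_inv_eq_right_inv (inv'_mul _) ?_
      rw [constPt, map_mul]
      show constPt A δ * constPt A γ * (inv' (constPt A γ) * inv' (constPt A δ)) = 1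
      rw [mul_assoc, ← mul_assoc (constPt A γ), mul_inv', one_mul, mul_inv']
    show _ = inv' (constPt A (δ * γ)) * toConv (AlgHom.id k A) * constPt A (δ * γ)
    rw [hinv, show constPt A (δ * γ) = constPt A δ * constPt A γ from map_mul _ _ _,
      show FinHopf.postComp (Algebra.ofId k A) γ = constPt A γ from rfl]
    simp only [mul_assoc]
  exact congrArg WithConv.ofConv h

omit [I.IsHopfIdeal k] in
theorem conjG_one : conjG (1 : WithConv (A →ₐ[k] k)) = AlgHom.id k A := by
  have h1 : constPt A (1 : WithConv (A →ₐ[k] k)) = 1 := map_one _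
  have h2 : inv' (1 : WithConv (A →ₐ[k] A)) = 1 := left_inv_eq_right_inv (inv'_mul _) (one_mul _)
  simp [conjG, h1, h2]

omit [I.IsHopfIdeal k] in
theorem conjN_comp (γ δ : WithConv (A →ₐ[k] k)) (χ : A ⧸ I) :
    conjN I hI δ (conjN I hI γ χ) = conjN I hI (δ * γ) χ := by
  obtain ⟨a, rfl⟩ := Ideal.Quotient.mk_surjective χ
  rw [conjN_mk, conjN_mk, conjN_mk, ← conjG_comp]
  rfl

omit [I.IsHopfIdeal k] in
theorem conjN_one (χ : A ⧸ I) : conjN I hI 1 χ = χ := by
  obtain ⟨a, rfl⟩ := Ideal.Quotient.mk_surjective χ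
  rw [conjN_mk, conjG_one]
  rfl

omit [I.IsHopfIdeal k] in
theorem conjG_mem_semi (γ : WithConv (A →ₐ[k] k)) {χ : A ⧸ I} {f : A} (hf : f ∈ semi (k := k) I χ) :
    conjG γ f ∈ semi (k := k) I (conjN I hI γ χ) := by
  rw [mem_semi] at hf ⊢
  let T := A ⊗[k] (A ⧸ I)
  have key : ∀ (R : Type u) [CommRing R] [Algebra k R] (P : WithConv (A →ₐ[k] R)) (h : A ⧸ I →ₐ[k] R),
      (P * ofQuot I h).ofConv.comp (conjG γ) =
        (FinHopf.postComp (C := A) P.ofConv (toConv (conjG γ)) * ofQuot I (h.comp (conjN I hI γ))).ofConv := by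
    intro R _ _ P h
    let c : WithConv (A →ₐ[k] R) := FinHopf.postComp (Algebra.ofId k R) γ
    have e1 : ∀ X : WithConv (A →ₐ[k] R),
        FinHopf.postComp (C := A) X.ofConv (toConv (conjG γ)) = inv' c * X * c := by
      intro X
      rw [show toConv (conjG γ) = inv' (constPt A γ) * toConv (AlgHom.id k A) * constPt A γ from rfl, map_mul, map_mul,
        postComp_inv', postComp_constPt]
      rfl
    have e2 : ofQuot I (h.comp (conjN I hI γ)) = inv' c * ofQuot I h * c := by
      have e3 : ofQuot I (h.comp (conjN I hI γ)) =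
          FinHopf.postComp (C := A) (ofQuot I h).ofConv (toConv (conjG γ)) :=
        WithConv.ofConv_injective (AlgHom.ext fun a => by
          show h (conjN I hI γ (Ideal.Quotient.mk I a)) = _
          rw [conjN_mk]; rfl)
      rw [e3, e1]
    have e4 := e1 (P * ofQuot I h)
    rw [e1, e2]
    have e5 : inv' c * P * c * (inv' c * ofQuot I h * c) = inv' c * (P * ofQuot I h) * c := by
      simp only [mul_assoc]
      rw [← mul_assoc c (inv' c), mul_inv', one_mul]
    rw [e5, ← e4]
    rfl
  have h1 := DFunLike.congr_fun (key (A ⊗[k] (A ⧸ I)) (toConv Algebra.TensorProduct.includeLeft)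
    Algebra.TensorProduct.includeRight) f
  rw [AlgHom.comp_apply, mul_ofQuot_apply, mul_ofQuot_apply, hf, Algebra.TensorProduct.lift_tmul] at h1
  rw [show Algebra.TensorProduct.lift _ _ _ (coactR (k := k) I (conjG γ f)) = coactR (k := k) I (conjG γ f) from
    DFunLike.congr_fun Algebra.TensorProduct.lift_includeLeft_includeRight _] at h1
  rw [h1]
  show (conjG γ f) ⊗ₜ[k] (1 : A ⧸ I) * (1 : A) ⊗ₜ[k] conjN I hI γ χ = _
  rw [Algebra.TensorProduct.tmul_mul_tmul, mul_one, one_mul]

omit [I.IsHopfIdeal k] in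
theorem counit_conjG (γ : WithConv (A →ₐ[k] k)) (a : A) :
    Coalgebra.counit (R := k) (conjG γ a) = Coalgebra.counit (R := k) a := by
  have h : FinHopf.postComp (C := A) (Bialgebra.counitAlgHom k A) (toConv (conjG γ)) = 1 := by
    rw [show toConv (conjG γ) = inv' (constPt A γ) * toConv (AlgHom.id k A) * constPt A γ from rfl, map_mul, map_mul,
      postComp_inv', postComp_constPt,
      show FinHopf.postComp (C := A) (Bialgebra.counitAlgHom k A) (toConv (AlgHom.id k A)) = 1 from
        WithConv.ofConv_injective (AlgHom.ext fun a => by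
          simp [FinHopf.postComp, AlgHom.convOne_def, Algebra.ofId_apply]),
      mul_one, inv'_mul]
  exact DFunLike.congr_fun (congrArg WithConv.ofConv h) a

include hI in
/-- finitely many conjugate weights -/
theorem finite_weights {χ : A ⧸ I} {f : A} (hf : f ∈ semi (k := k) I χ) (hf1 : Coalgebra.counit (R := k) f = 1) :
    (Set.range fun γ : WithConv (A →ₐ[k] k) => conjN I hI γ χ).Finite := by
  classical
  let U : WithConv (A →ₐ[k] A ⊗[k] A) := inv' (toConv (Algebra.TensorProduct.includeRight : A →ₐ[k] A ⊗[k] A)) *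
    toConv (Algebra.TensorProduct.includeLeft : A →ₐ[k] A ⊗[k] A) * toConv (Algebra.TensorProduct.includeRight : A →ₐ[k] A ⊗[k] A)
  obtain ⟨M, hM, hMem⟩ := exists_fg_slR_mem (U.ofConv f)
  haveI : Module.Finite k M := Module.Finite.iff_fg.2 hM
  have hin : ∀ γ : WithConv (A →ₐ[k] k), conjG γ f ∈ M := by
    intro γ
    let Φ : A ⊗[k] A →ₐ[k] A := Algebra.TensorProduct.lift (AlgHom.id k A) (constPt A γ).ofConv
      fun _ _ => Commute.all _ _
    have h : FinHopf.postComp (C := A) Φ U = toConv (conjG γ) := by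
      rw [map_mul, map_mul, postComp_inv',
        show FinHopf.postComp (C := A) Φ (toConv Algebra.TensorProduct.includeRight) = constPt A γ from
          WithConv.ofConv_injective (Algebra.TensorProduct.lift_comp_includeRight _ _ fun _ _ => Commute.all _ _),
        show FinHopf.postComp (C := A) Φ (toConv Algebra.TensorProduct.includeLeft) = toConv (AlgHom.id k A) from
          WithConv.ofConv_injective (Algebra.TensorProduct.lift_comp_includeLeft _ _ fun _ _ => Commute.all _ _)]
      rfl
    have e : ∀ z : A ⊗[k] A, Φ z = slR γ.ofConv.toLinearMap z := by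
      intro z
      induction z with
      | zero => simp
      | tmul p q => simp [Φ, constPt, Algebra.smul_def, mul_comm]
      | add y z hy hz => simp only [map_add, hy, hz]
    rw [← show Φ (U.ofConv f) = conjG γ f from DFunLike.congr_fun (congrArg WithConv.ofConv h) f, e]
    exact hMem _
  by_contra hinf
  obtain ⟨t, ht, htcard⟩ := (Set.not_finite.1 hinf).exists_subset_card_eq (Module.finrank k M + 1)
  choose γ hγ using fun x : t => ht x.2
  let v : t → M := fun x => ⟨conjG (γ x) f, hin _⟩
  have hv : LinearIndependent k v := by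
    rw [Fintype.linearIndependent_iff]
    intro c hc x₀
    have hgl : ∀ x : t, IsGroupLikeElem k (x : A ⧸ I) := fun x => by
      refine isGroupLikeElem_of_mem_semi I (a := conjG (γ x) f) ?_ ?_
      · rw [← hγ x]; exact conjG_mem_semi I hI _ hf
      · intro h0
        have := counit_conjG (γ x) f
        rw [h0, map_zero, hf1] at this
        exact zero_ne_one this
    have hli : LinearIndependent k (fun x : t => (x : A ⧸ I)) :=
      (linearIndepOn_isGroupLikeElem (R := k) (A := A ⧸ I)).comp
        (fun x : t => (⟨(x : A ⧸ I), hgl x⟩ : {a : A ⧸ I | IsGroupLikeElem k a}))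
        (fun x y hxy => Subtype.ext (congrArg Subtype.val hxy : _))
    obtain ⟨r, hr⟩ := LinearMap.exists_leftInverse_of_injective
      (Fintype.linearCombination k (fun x : t => (x : A ⧸ I))) (LinearMap.ker_eq_bot.2
        (linearIndependent_iff_injective_fintypeLinearCombination.1 hli))
    let φ : A ⧸ I →ₗ[k] k := LinearMap.proj x₀ ∘ₗ r
    have hφ : ∀ x : t, φ x = if x = x₀ then 1 else 0 := by
      intro x
      have h := LinearMap.congr_fun hr (Pi.single x 1)
      simp only [LinearMap.comp_apply, Fintype.linearCombination_apply_single, one_smul, LinearMap.id_apply] at h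
      simp [φ, h, Pi.single_apply, eq_comm]
    have hc' : ∑ x, c x • conjG (γ x) f = 0 := by
      have := congrArg Subtype.val hc
      simpa [v, Submodule.coe_sum] using this
    have h2 := congrArg (fun a => slR φ (coactR (k := k) I a)) hc'
    simp only [map_sum, map_smul, map_zero] at h2
    have h3 : ∀ x : t, coactR (k := k) I (conjG (γ x) f) = conjG (γ x) f ⊗ₜ[k] (x : A ⧸ I) := fun x => by
      rw [(mem_semi I).1 (conjG_mem_semi I hI _ hf), show conjN I hI (γ x) χ = x from hγ x]
    simp only [h3, slR_tmul, hφ, ite_smul, one_smul, zero_smul, smul_ite, smul_zero, Finset.sum_ite_eq',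
      Finset.mem_univ, if_true] at h2
    rcases smul_eq_zero.1 h2 with h | h
    · exact h
    · have := counit_conjG (γ x₀) f
      rw [h, map_zero, hf1] at this
      exact absurd this zero_ne_one
  have := hv.fintype_card_le_finrank
  rw [Fintype.card_coe, htcard] at this
  omega

include hI in
/-- a weight invariant under rational points has a power invariant under the whole group -/
theorem exists_pow_invariant [IsAlgClosed k] [Algebra.FiniteType k A] {χ : A ⧸ I}
    (hχ : ∀ γ : WithConv (A →ₐ[k] k), conjN I hI γ χ = χ) :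
    ∃ q : ℕ, 0 < q ∧ (Ideal.Quotient.liftₐ I (conjPt (k := k) I).ofConv hI) (χ ^ q) = (χ ^ q) ⊗ₜ[k] 1 := by
  classical
  let C := Ideal.Quotient.liftₐ I (conjPt (k := k) I).ofConv hI
  let D := C χ - χ ⊗ₜ[k] 1
  let red := Ideal.Quotient.mkₐ k (nilradical A)
  haveI : _root_.IsReduced (A ⧸ nilradical A) :=
    (Ideal.isRadical_iff_quotient_reduced _).1 (Ideal.radical_isRadical _)
  have hz : red.toLinearMap.lTensor (A ⧸ I) D = 0 := by
    refine eq_zero_of_slR_eq_zero fun φ => (Submodule.mem_bot k).1 ?_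
    refine LinRed.slR_mem_of_forall_point (k := k) (P := ⊥) (fun g => ?_) φ
    rw [Submodule.mem_bot]
    let γ : WithConv (A →ₐ[k] k) := toConv (g.comp red)
    let Φ : (A ⧸ I) ⊗[k] A →ₐ[k] A ⧸ I := Algebra.TensorProduct.lift (AlgHom.id k (A ⧸ I))
      ((Algebra.ofId k (A ⧸ I)).comp γ.ofConv) fun _ _ => Commute.all _ _
    have e : ∀ z : (A ⧸ I) ⊗[k] A, slR g.toLinearMap (red.toLinearMap.lTensor (A ⧸ I) z) = Φ z := by
      intro z
      induction z with
      | zero => simp
      | tmul p q => simp [Φ, γ, red, Algebra.smul_def, mul_comm]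
      | add y z hy hz => simp only [map_add, hy, hz]
    rw [e, map_sub, show Φ (C χ) = conjN I hI γ χ from rfl, hχ]
    simp [Φ]
  have hnil : IsNilpotent D := by
    have hex : Function.Exact ((nilradical A).restrictScalars k).subtype red.toLinearMap :=
      LinearMap.exact_iff.2 (by
        ext x
        simp [red, Ideal.Quotient.eq_zero_iff_mem])
    obtain ⟨y, hy⟩ := (Module.Flat.lTensor_exact (A ⧸ I) hex D).1 hz
    rw [← hy]
    clear hy
    induction y with
    | zero => simp
    | tmul p q =>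
      obtain ⟨n, hn⟩ := (mem_nilradical.1 q.2)
      refine ⟨n, ?_⟩
      rw [LinearMap.lTensor_tmul, Algebra.TensorProduct.tmul_pow]
      have hq : ((q : A)) ^ n = 0 := hn
      simp [hq]
    | add y z hy hz => rw [map_add]; exact (Commute.all _ _).isNilpotent_add hy hz
  obtain ⟨p, hp⟩ := ExpChar.exists k
  cases hp with
  | zero =>
    refine ⟨1, one_pos, ?_⟩
    haveI := LinRed.isReduced_of_hopfAlgebra_charZero k A
    have hinj : Function.Injective red := by
      intro x y hxy
      have := Ideal.Quotient.eq.1 hxy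
      rw [nilradical_eq_zero A] at this
      exact sub_eq_zero.1 this
    have := Module.Flat.lTensor_preserves_injective_linearMap (M := A ⧸ I) red.toLinearMap hinj
      (hz.trans (map_zero _).symm)
    rw [pow_one]
    exact sub_eq_zero.1 this
  | prime hprime =>
    obtain ⟨n, hn⟩ := hnil
    refine ⟨p ^ n, pow_pos hprime.pos n, ?_⟩
    haveI : Fact p.Prime := ⟨hprime⟩
    haveI : Nontrivial ((A ⧸ I) ⊗[k] A) := by
      refine ⟨1, 0, fun h => ?_⟩
      have := congrArg (Algebra.TensorProduct.lift (Algebra.ofId k k |>.comp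
        (Ideal.Quotient.liftₐ I (Bialgebra.counitAlgHom k A) fun a ha => counit_eq_zero I ha))
        (Bialgebra.counitAlgHom k A) fun _ _ => Commute.all _ _) h
      rw [map_one, map_zero] at this
      exact one_ne_zero this
    haveI : CharP ((A ⧸ I) ⊗[k] A) p :=
      charP_of_injective_algebraMap (algebraMap k ((A ⧸ I) ⊗[k] A)).injective p
    have h0 : D ^ p ^ n = 0 := pow_eq_zero_of_le (Nat.lt_pow_self hprime.one_lt).le hn
    rw [sub_pow_char_pow, Algebra.TensorProduct.tmul_pow, one_pow, sub_eq_zero] at h0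
    rw [map_pow]
    exact h0

include hI in
theorem le_augIdealSpan_of_isAlgClosed [IsAlgClosed k] [Algebra.FiniteType k A] :
    I ≤ SGA3.augIdealSpan k A (invQ (k := k) I) := by
  classical
  haveI : IsNoetherianRing A := Algebra.FiniteType.isNoetherianRing k A
  obtain ⟨s, hs⟩ := I.fg_of_isNoetherianRing
  obtain ⟨χ, f₀, hf₀, hε₀, hdata⟩ := exists_data (k := k) I s fun x hx => hs ▸ Ideal.subset_span hx
  have hfin := finite_weights I hI hf₀ hε₀
  let Ω := hfin.toFinset
  have hΩ : ∀ {ψ}, ψ ∈ Ω ↔ ∃ γ, conjN I hI γ χ = ψ := fun {ψ} => by simp [Ω]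
  have hχΩ : χ ∈ Ω := hΩ.2 ⟨1, conjN_one I hI χ⟩
  have hsel : ∀ ψ ∈ Ω, ∃ g ∈ semi (k := k) I ψ, Coalgebra.counit (R := k) g = 1 := by
    intro ψ hψ
    obtain ⟨γ, rfl⟩ := hΩ.1 hψ
    exact ⟨conjG γ f₀, conjG_mem_semi I hI γ hf₀, by rw [counit_conjG, hε₀]⟩
  choose! g hg hgε using hsel
  let F := ∏ ψ ∈ Ω.erase χ, g ψ
  let χ₁ := ∏ ψ ∈ Ω, ψ
  have hF : f₀ * F ∈ semi (k := k) I χ₁ := by
    rw [show χ₁ = χ * ∏ ψ ∈ Ω.erase χ, ψ from (Finset.mul_prod_erase Ω (fun ψ => ψ) hχΩ).symm]
    exact mul_mem_semi I hf₀ (prod_mem_semi I _ fun ψ hψ => hg ψ (Finset.mem_of_mem_erase hψ))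
  have hFε : Coalgebra.counit (R := k) F = 1 := by
    show Bialgebra.counitAlgHom k A F = 1
    rw [map_prod]
    exact Finset.prod_eq_one fun ψ hψ => hgε ψ (Finset.mem_of_mem_erase hψ)
  have hinv : ∀ γ, conjN I hI γ χ₁ = χ₁ := by
    intro γ
    rw [map_prod]
    have hinjγ : Function.Injective (conjN I hI γ) := fun x y hxy => by
      have h' := congrArg (conjN I hI γ⁻¹) hxy
      rwa [conjN_comp, conjN_comp, inv_mul_cancel, conjN_one, conjN_one] at h'
    have himg : Ω.image (conjN I hI γ) = Ω := by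
      refine Finset.eq_of_subset_of_card_le (fun ψ hψ => ?_) (Finset.card_image_of_injective _ hinjγ).ge
      obtain ⟨φ, hφ, rfl⟩ := Finset.mem_image.1 hψ
      obtain ⟨δ, rfl⟩ := hΩ.1 hφ
      exact hΩ.2 ⟨γ * δ, (conjN_comp I hI δ γ χ).symm⟩
    conv_rhs => rw [show χ₁ = ∏ ψ ∈ Ω.image (conjN I hI γ), ψ by rw [himg], Finset.prod_image hinjγ.injOn]
  obtain ⟨q, hq, hχq⟩ := exists_pow_invariant I hI hinv
  have hG : (f₀ * F) ^ q ∈ semi (k := k) I (χ₁ ^ q) := pow_mem_semi I hF q
  have hGε : Coalgebra.counit (R := k) ((f₀ * F) ^ q) = 1 := by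
    show Bialgebra.counitAlgHom k A ((f₀ * F) ^ q) = 1
    rw [map_pow, map_mul, show Bialgebra.counitAlgHom k A f₀ = 1 from hε₀,
      show Bialgebra.counitAlgHom k A F = 1 from hFε, one_mul, one_pow]
  obtain ⟨χ', b, hχ', hb, hbε⟩ := exists_mem_semi_inverse I (semi_le_of_weight I hI hχq) hG hGε
  obtain ⟨m, rfl⟩ : ∃ m, q = m + 1 := ⟨q - 1, by omega⟩
  let u := f₀ ^ m * F ^ (m + 1) * b
  have hu : ∀ f ∈ semi (k := k) I χ, f * u ∈ invQ (k := k) I := by
    intro f hf
    rw [mem_invQ, ← hχ']
    have h1 : f * F ∈ semi (k := k) I χ₁ := by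
      rw [show χ₁ = χ * ∏ ψ ∈ Ω.erase χ, ψ from (Finset.mul_prod_erase Ω (fun ψ => ψ) hχΩ).symm]
      exact mul_mem_semi I hf (prod_mem_semi I _ fun ψ hψ => hg ψ (Finset.mem_of_mem_erase hψ))
    have h2 := mul_mem_semi I (mul_mem_semi I h1 (pow_mem_semi I hF m)) hb
    rw [← pow_succ'] at h2
    convert h2 using 1
    simp only [u]
    ring
  let J := SGA3.augIdealSpan k A (invQ (k := k) I)
  have hunit : f₀ * u - 1 ∈ J := by
    refine Ideal.subset_span ⟨sub_mem (hu f₀ hf₀) (one_mem _), ?_⟩
    show Bialgebra.counitAlgHom k A (f₀ * u - 1) = 0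
    rw [map_sub, map_one, map_mul, map_mul, map_mul, map_pow, map_pow,
      show Bialgebra.counitAlgHom k A f₀ = 1 from hε₀, show Bialgebra.counitAlgHom k A F = 1 from hFε,
      show Bialgebra.counitAlgHom k A b = 1 from hbε]
    simp
  refine hs.symm.le.trans (Ideal.span_le.2 ?_)
  intro x hx
  have h1 : f₀ * x * u ∈ J := by
    have h := hdata x hx
    generalize f₀ * x = z at h
    induction h using Submodule.span_induction with
    | mem z hz =>
      refine Ideal.subset_span ⟨hu z hz.1, ?_⟩
      show Bialgebra.counitAlgHom k A (z * u) = 0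
      rw [map_mul, show Bialgebra.counitAlgHom k A z = 0 from hz.2, zero_mul]
    | zero => simp
    | add y z _ _ hy hz => rw [add_mul]; exact add_mem hy hz
    | smul c z _ hz => rw [smul_mul_assoc]; exact J.mul_mem_left c hz
  have h2 : x = f₀ * x * u - x * (f₀ * u - 1) := by ring
  rw [SetLike.mem_coe, h2]
  exact sub_mem h1 (J.mul_mem_left x hunit)

end Groth.Agent.NormalQuot
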