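import Groth.Agent.HopfFF.Kernel
import Groth.Prelude.Def_SGA3
import Groth.Agent.Comod.Comatrix
import Mathlib.RingTheory.Bialgebra.Quotient
import Mathlib.RingTheory.HopfAlgebra.Quotient
import Mathlib.RingTheory.Bialgebra.GroupLike

/-!
# Semi-invariants and invariants of a normal Hopf ideal
-/

set_option autoImplicit false
universe u v

open TensorProduct WithConv

namespace Groth.Agent.NormalQuot

open Groth.Agent.HopfFF Groth.Agent.Comod

variable {k : Type u} [Field k] {A : Type u} [CommRing A] [HopfAlgebra k A] (I : Ideal A)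

section Points

variable {T : Type*} [CommRing T] [Algebra k T]

theorem inv'_inv' (x : WithConv (A →ₐ[k] T)) : inv' (inv' x) = x :=
  (left_inv_eq_right_inv (inv'_mul (inv' x)) (inv'_mul x))

theorem conv3_eq {C : Type u} [CommRing C] [Algebra k C] (f g h : A →ₐ[k] C) :
    Dyn.conv3 k A f g h = (toConv f * toConv g * toConv h).ofConv := by
  ext a
  rw [AlgHom.convMul_apply]
  show (Algebra.TensorProduct.lmul' k) ((Algebra.TensorProduct.map _ h)
    (Algebra.TensorProduct.map (Bialgebra.comulAlgHom k A) (AlgHom.id k A) (Coalgebra.comul (R := k) a))) = _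
  generalize Coalgebra.comul (R := k) a = z
  induction z with
  | zero => simp
  | tmul p q =>
    simp only [Algebra.TensorProduct.map_tmul, AlgHom.coe_comp, Function.comp_apply, AlgHom.id_apply,
      Algebra.TensorProduct.lmul'_apply_tmul, Algebra.TensorProduct.lift_tmul, AlgHom.toLinearMap_apply]
    congr 1
  | add y z hy hz => simp only [map_add, hy, hz]

/-- pulling a point of the quotient back to the group -/
noncomputable def ofQuot (x : (A ⧸ I) →ₐ[k] T) : WithConv (A →ₐ[k] T) :=
  toConv (x.comp (Ideal.Quotient.mkₐ k I))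

end Points

/-- the conjugate of the tautological point of the subgroup by the tautological point of the group -/
noncomputable def conjPt : WithConv (A →ₐ[k] (A ⧸ I) ⊗[k] A) :=
  inv' (toConv (Algebra.TensorProduct.includeRight : A →ₐ[k] (A ⧸ I) ⊗[k] A)) *
    ofQuot I Algebra.TensorProduct.includeLeft *
    toConv (Algebra.TensorProduct.includeRight : A →ₐ[k] (A ⧸ I) ⊗[k] A)

/-- normality, read on the tautological points -/
def IsConjStable (k : Type u) [Field k] {A : Type u} [CommRing A] [HopfAlgebra k A] (I : Ideal A) : Prop :=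
  ∀ a ∈ I, (conjPt (k := k) I).ofConv a = 0

theorem postComp_inv' {T T' : Type*} [CommRing T] [Algebra k T] [CommRing T'] [Algebra k T'] (φ : T →ₐ[k] T')
    (x : WithConv (A →ₐ[k] T)) : FinHopf.postComp φ (inv' x) = inv' (FinHopf.postComp φ x) :=
  WithConv.ofConv_injective (AlgHom.ext fun _ => rfl)

theorem postComp_conjPt {T : Type*} [CommRing T] [Algebra k T] (h : A ⧸ I →ₐ[k] T) (g : A →ₐ[k] T) :
    FinHopf.postComp (C := A) (Algebra.TensorProduct.lift h g fun _ _ => Commute.all _ _) (conjPt I) =
      inv' (toConv g) * ofQuot I h * toConv g := by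
  rw [conjPt, map_mul, map_mul, postComp_inv']
  congr 2
  · congr 1
    exact WithConv.ofConv_injective (AlgHom.ext fun a => by simp [FinHopf.postComp])
  · exact WithConv.ofConv_injective (AlgHom.ext fun a => by simp [FinHopf.postComp, ofQuot])
  · exact WithConv.ofConv_injective (AlgHom.ext fun a => by simp [FinHopf.postComp])

theorem isConjStable_of_isNormal (hI : SGA3.IsNormalHopfIdeal k A I) : IsConjStable k I := by
  intro a ha
  let R := (A ⧸ I) ⊗[k] A
  let g : WithConv (A →ₐ[k] R) := toConv Algebra.TensorProduct.includeRight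
  let h : WithConv (A →ₐ[k] R) := ofQuot I Algebra.TensorProduct.includeLeft
  have hh : ∀ b ∈ I, h.ofConv b = 0 := fun b hb => by
    show (Algebra.TensorProduct.includeLeft : A ⧸ I →ₐ[k] R) (Ideal.Quotient.mkₐ k I b) = 0
    rw [show Ideal.Quotient.mkₐ k I b = 0 from Ideal.Quotient.eq_zero_iff_mem.2 hb, map_zero]
  have h1 := hI R (inv' g).ofConv h.ofConv hh a ha
  rw [conv3_eq] at h1
  have e : toConv ((inv' g).ofConv.comp (HopfAlgebra.antipodeAlgHom k A)) = g := by
    refine Eq.trans ?_ (inv'_inv' g)
    rfl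
  rw [e] at h1
  exact h1

theorem isNormal_of_isConjStable (hI : IsConjStable k I) : SGA3.IsNormalHopfIdeal k A I := by
  intro R _ _ g h hh a ha
  rw [conv3_eq]
  let h' : A ⧸ I →ₐ[k] R := Ideal.Quotient.liftₐ I h hh
  let g' : A →ₐ[k] R := g.comp (HopfAlgebra.antipodeAlgHom k A)
  have e := DFunLike.congr_fun (congrArg WithConv.ofConv (postComp_conjPt I h' g')) a
  rw [show (FinHopf.postComp (C := A) (Algebra.TensorProduct.lift h' g' fun _ _ => Commute.all _ _)
    (conjPt I)).ofConv a = Algebra.TensorProduct.lift h' g' (fun _ _ => Commute.all _ _) ((conjPt I).ofConv a)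
    from rfl, hI a ha, map_zero] at e
  rw [show inv' (toConv g') = toConv g from inv'_inv' (toConv g),
    show ofQuot I h' = toConv h from WithConv.ofConv_injective (AlgHom.ext fun b => rfl)] at e
  exact e.symm

variable [I.IsHopfIdeal k]

/-- the right coaction of the subgroup -/
noncomputable def coactR : A →ₐ[k] A ⊗[k] (A ⧸ I) :=
  (Algebra.TensorProduct.map (AlgHom.id k A) (Ideal.Quotient.mkₐ k I)).comp (Bialgebra.comulAlgHom k A)

omit [I.IsHopfIdeal k] in
theorem coactR_apply (a : A) :
    coactR (k := k) I a = (Ideal.Quotient.mkₐ k I).toLinearMap.lTensor A (Coalgebra.comul (R := k) a) := by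
  show Algebra.TensorProduct.map (AlgHom.id k A) (Ideal.Quotient.mkₐ k I) (Coalgebra.comul (R := k) a) = _
  generalize Coalgebra.comul (R := k) a = z
  induction z with
  | zero => simp
  | tmul p q => simp
  | add y z hy hz => simp only [map_add, hy, hz]

omit [I.IsHopfIdeal k] in
theorem mul_ofQuot_apply {T : Type*} [CommRing T] [Algebra k T] (x : WithConv (A →ₐ[k] T)) (h : A ⧸ I →ₐ[k] T)
    (a : A) : (x * ofQuot I h).ofConv a =
      Algebra.TensorProduct.lift x.ofConv h (fun _ _ => Commute.all _ _) (coactR I a) := by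
  rw [AlgHom.convMul_apply, coactR_apply]
  generalize Coalgebra.comul (R := k) a = z
  induction z with
  | zero => simp
  | tmul p q => simp [ofQuot]
  | add y z hy hz => simp only [map_add, hy, hz]

/-- semi-invariants of weight `χ` -/
noncomputable def semi (χ : A ⧸ I) : Submodule k A :=
  LinearMap.ker ((coactR (k := k) I).toLinearMap - (TensorProduct.mk k A (A ⧸ I)).flip χ)

omit [I.IsHopfIdeal k] in
theorem mem_semi {χ : A ⧸ I} {a : A} : a ∈ semi (k := k) I χ ↔ coactR (k := k) I a = a ⊗ₜ[k] χ := by
  simp [semi, sub_eq_zero]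

omit [I.IsHopfIdeal k] in
theorem mul_mem_semi {χ ψ : A ⧸ I} {a b : A} (ha : a ∈ semi (k := k) I χ) (hb : b ∈ semi (k := k) I ψ) :
    a * b ∈ semi (k := k) I (χ * ψ) := by
  rw [mem_semi] at ha hb ⊢
  rw [map_mul, ha, hb, Algebra.TensorProduct.tmul_mul_tmul]

omit [I.IsHopfIdeal k] in
theorem one_mem_semi : (1 : A) ∈ semi (k := k) I 1 := by
  rw [mem_semi, map_one, Algebra.TensorProduct.one_def]

omit [I.IsHopfIdeal k] in
theorem pow_mem_semi {χ : A ⧸ I} {a : A} (ha : a ∈ semi (k := k) I χ) : ∀ n, a ^ n ∈ semi (k := k) I (χ ^ n)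
  | 0 => by simpa using one_mem_semi I
  | n + 1 => by rw [pow_succ, pow_succ]; exact mul_mem_semi I (pow_mem_semi ha n) ha

omit [I.IsHopfIdeal k] in
theorem prod_mem_semi {ι : Type*} (s : Finset ι) {χ : ι → A ⧸ I} {f : ι → A}
    (h : ∀ i ∈ s, f i ∈ semi (k := k) I (χ i)) : ∏ i ∈ s, f i ∈ semi (k := k) I (∏ i ∈ s, χ i) := by
  classical
  induction s using Finset.induction with
  | empty => simpa using one_mem_semi I
  | insert i s hi ih =>
    rw [Finset.prod_insert hi, Finset.prod_insert hi]
    exact mul_mem_semi I (h i (Finset.mem_insert_self i s)) (ih fun j hj => h j (Finset.mem_insert_of_mem hj))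

/-- the invariants of the subgroup -/
noncomputable def invQ : Subalgebra k A :=
  AlgHom.equalizer (coactR (k := k) I) (Algebra.TensorProduct.includeLeft : A →ₐ[k] A ⊗[k] (A ⧸ I))

omit [I.IsHopfIdeal k] in
theorem mem_invQ {a : A} : a ∈ invQ (k := k) I ↔ a ∈ semi (k := k) I 1 := by
  rw [mem_semi]; rfl

theorem counit_eq_zero {a : A} (ha : a ∈ I) : Coalgebra.counit (R := k) a = 0 :=
  Ideal.IsHopfIdeal.toIsCoideal.counit_eq_zero (R := k) ha

theorem augIdealSpan_le : SGA3.augIdealSpan k A (invQ (k := k) I) ≤ I := by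
  refine Ideal.span_le.2 fun a ⟨ha, h0⟩ => ?_
  have h := congrArg (slL (Coalgebra.counit (R := k) (A := A))) ((mem_semi I).1 ((mem_invQ I).1 ha))
  rw [coactR_apply, slL_tmul, h0, zero_smul] at h
  have e : ∀ z : A ⊗[k] A, slL (Coalgebra.counit (R := k) (A := A))
      ((Ideal.Quotient.mkₐ k I).toLinearMap.lTensor A z) =
      Ideal.Quotient.mk I (slL (Coalgebra.counit (R := k)) z) := by
    intro z
    induction z with
    | zero => simp
    | tmul p q => simp [Algebra.smul_def]
    | add y z hy hz => simp only [map_add, hy, hz]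
  rw [e] at h
  rw [SetLike.mem_coe, ← Ideal.Quotient.eq_zero_iff_mem, ← h]
  simp [slL, Coalgebra.rTensor_counit_comul]

/-- the weight of a nonzero semi-invariant is group-like -/
theorem isGroupLikeElem_of_mem_semi {χ : A ⧸ I} {a : A} (ha : a ∈ semi (k := k) I χ) (h0 : a ≠ 0) :
    IsGroupLikeElem k χ := by
  obtain ⟨φ, hφ⟩ := Module.Projective.exists_dual_ne_zero k h0
  rw [mem_semi, coactR_apply] at ha
  set π : A →ₗ[k] A ⧸ I := (Ideal.Quotient.mkₐ k I).toLinearMap with hπdef
  have hεπ : ∀ b, Coalgebra.counit (R := k) (π b) = Coalgebra.counit (R := k) b := fun b =>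
    CoalgHomClass.counit_comp_apply (Bialgebra.Quotient.mkBialgHom I) b
  have hΔπ : ∀ b, Coalgebra.comul (R := k) (π b) = TensorProduct.map π π (Coalgebra.comul (R := k) b) := fun b =>
    (CoalgHomClass.map_comp_comul_apply (Bialgebra.Quotient.mkBialgHom I) b).symm
  constructor
  · have h1 := congrArg (fun z => φ (slR (Coalgebra.counit (R := k) (A := A ⧸ I)) z)) ha
    have e : ∀ z : A ⊗[k] A, slR (Coalgebra.counit (R := k) (A := A ⧸ I)) (π.lTensor A z) =
        TensorProduct.rid k A ((Coalgebra.counit (R := k) (A := A)).lTensor A z) := by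
      intro z
      induction z with
      | zero => simp
      | tmul p q => simp [hεπ]
      | add y z hy hz => simp only [map_add, hy, hz]
    simp only [e, Coalgebra.lTensor_counit_comul, slR_tmul, map_smul, TensorProduct.rid_tmul, one_smul,
      smul_eq_mul] at h1
    exact mul_right_cancel₀ hφ (by rw [one_mul]; exact h1.symm)
  · -- compare the two iterated coactions
    have hc := Coalgebra.coassoc_apply (R := k) a
    have e1 : ∀ z : A ⊗[k] A, (TensorProduct.map π π).lTensor A ((Coalgebra.comul (R := k)).lTensor A z) =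
        (Coalgebra.comul (R := k)).lTensor A (π.lTensor A z) := by
      intro z
      induction z with
      | zero => simp
      | tmul p q => simp [hΔπ]
      | add y z hy hz => simp only [map_add, hy, hz]
    have e2 : ∀ z : A ⊗[k] A, (TensorProduct.map π π).lTensor A
        (TensorProduct.assoc k A A A ((Coalgebra.comul (R := k)).rTensor A z)) =
        TensorProduct.assoc k A (A ⧸ I) (A ⧸ I)
          ((π.lTensor A ∘ₗ Coalgebra.comul (R := k)).rTensor (A ⧸ I) (π.lTensor A z)) := by
      intro z
      induction z with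
      | zero => simp
      | tmul p q =>
        simp only [LinearMap.rTensor_tmul, LinearMap.lTensor_tmul, LinearMap.comp_apply]
        generalize Coalgebra.comul (R := k) p = y
        induction y with
        | zero => simp
        | tmul r s => simp
        | add y z hy hz => simp only [add_tmul, map_add, hy, hz]
      | add y z hy hz => simp only [map_add, hy, hz]
    have h2 := congrArg ((TensorProduct.map π π).lTensor A) hc
    rw [e1, e2, ha, LinearMap.lTensor_tmul, LinearMap.rTensor_tmul, LinearMap.comp_apply, ha,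
      TensorProduct.assoc_tmul] at h2
    have h3 := congrArg (slL φ) h2
    rw [slL_tmul, slL_tmul] at h3
    exact (smul_right_injective ((A ⧸ I) ⊗[k] (A ⧸ I)) hφ h3).symm

theorem semi_translate {T : Type*} [CommRing T] [Algebra k T] {χ : A ⧸ I} (hI : IsConjStable k I)
    (hχ : (Ideal.Quotient.liftₐ I (conjPt (k := k) I).ofConv hI) χ = χ ⊗ₜ[k] 1) {a : A}
    (ha : a ∈ semi (k := k) I χ) (pa : WithConv (A →ₐ[k] T)) (hq : A ⧸ I →ₐ[k] T) (pg : A →ₐ[k] T) :
    (pa * ofQuot I hq * toConv pg).ofConv a = (pa * toConv pg).ofConv a * hq χ := by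
  let C := Ideal.Quotient.liftₐ I (conjPt (k := k) I).ofConv hI
  let hq' : A ⧸ I →ₐ[k] T := (Algebra.TensorProduct.lift hq pg fun _ _ => Commute.all _ _).comp C
  have hq'' : ofQuot I hq' = inv' (toConv pg) * ofQuot I hq * toConv pg := by
    rw [← postComp_conjPt]
    exact WithConv.ofConv_injective (AlgHom.ext fun b => rfl)
  have hs : pa * ofQuot I hq * toConv pg = pa * toConv pg * ofQuot I hq' := by
    rw [hq'', mul_assoc, mul_assoc pa, ← mul_assoc (toConv pg), ← mul_assoc (toConv pg), mul_inv', one_mul]
  rw [hs, mul_ofQuot_apply I (pa * toConv pg) hq', (mem_semi I).1 ha, Algebra.TensorProduct.lift_tmul]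
  congr 1
  show Algebra.TensorProduct.lift hq pg (fun _ _ => Commute.all _ _) (C χ) = _
  rw [show C χ = χ ⊗ₜ[k] 1 from hχ, Algebra.TensorProduct.lift_tmul, map_one, mul_one]

theorem semi_translate' {T : Type*} [CommRing T] [Algebra k T] {χ : A ⧸ I} (hI : IsConjStable k I)
    (hχ : (Ideal.Quotient.liftₐ I (conjPt (k := k) I).ofConv hI) χ = χ ⊗ₜ[k] 1) {a : A}
    (ha : a ∈ semi (k := k) I χ) (f : A ⊗[k] (A ⧸ I) →ₐ[k] T) (pg : A →ₐ[k] T) :
    Algebra.TensorProduct.lift f pg (fun _ _ => Commute.all _ _)
        ((coactR (k := k) I).toLinearMap.rTensor A (Coalgebra.comul (R := k) a)) =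
      Algebra.TensorProduct.lift f pg (fun _ _ => Commute.all _ _)
        (((TensorProduct.mk k A (A ⧸ I)).flip χ).rTensor A (Coalgebra.comul (R := k) a)) := by
  let pa : WithConv (A →ₐ[k] T) := toConv (f.comp Algebra.TensorProduct.includeLeft)
  let hq : A ⧸ I →ₐ[k] T := f.comp Algebra.TensorProduct.includeRight
  have hf : Algebra.TensorProduct.lift pa.ofConv hq (fun _ _ => Commute.all _ _) = f :=
    Algebra.TensorProduct.ext (AlgHom.ext fun x => by simp [pa]) (AlgHom.ext fun x => by simp [hq])
  have h1 := semi_translate I hI hχ ha pa hq pg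
  refine Eq.trans ?_ (h1.trans ?_)
  · rw [AlgHom.convMul_apply]
    have e : ∀ b, (pa * ofQuot I hq).ofConv b = f (coactR (k := k) I b) := by
      intro b
      rw [mul_ofQuot_apply, hf]
    generalize Coalgebra.comul (R := k) a = z
    induction z with
    | zero => simp
    | tmul p q => simp [e]
    | add y z hy hz => simp only [map_add, hy, hz]
  · rw [AlgHom.convMul_apply]
    have e : ∀ p, f (p ⊗ₜ[k] χ) = pa.ofConv p * hq χ := fun p => by
      show f (p ⊗ₜ[k] χ) = f (p ⊗ₜ[k] 1) * f (1 ⊗ₜ[k] χ)
      rw [← map_mul, Algebra.TensorProduct.tmul_mul_tmul, mul_one, one_mul]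
    generalize Coalgebra.comul (R := k) a = z
    induction z with
    | zero => simp
    | tmul p q => simp [e, mul_right_comm]
    | add y z hy hz => simp only [map_add, add_mul, hy, hz]

theorem semi_le_of_weight {χ : A ⧸ I} (hI : IsConjStable k I)
    (hχ : (Ideal.Quotient.liftₐ I (conjPt (k := k) I).ofConv hI) χ = χ ⊗ₜ[k] 1) :
    HopfRep.IsSubcomod (k := k) (A := A) (semi (k := k) I χ) := by
  intro a ha
  let L := (coactR (k := k) I).toLinearMap - (TensorProduct.mk k A (A ⧸ I)).flip χ
  have hex : Function.Exact (semi (k := k) I χ).subtype L :=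
    LinearMap.exact_iff.2 (Submodule.range_subtype _).symm
  refine (Module.Flat.rTensor_exact A hex (Coalgebra.comul (R := k) a)).1 ?_
  have h1 := semi_translate' (T := (A ⊗[k] (A ⧸ I)) ⊗[k] A) I hI hχ ha
    Algebra.TensorProduct.includeLeft Algebra.TensorProduct.includeRight
  rw [Algebra.TensorProduct.lift_includeLeft_includeRight] at h1
  rw [LinearMap.rTensor_sub]
  exact sub_eq_zero.2 h1

/-- an inverse semi-invariant, for a weight whose semi-invariants are stable -/
theorem exists_mem_semi_inverse {χ : A ⧸ I} (hs : HopfRep.IsSubcomod (k := k) (A := A) (semi (k := k) I χ))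
    {f : A} (hf : f ∈ semi (k := k) I χ) (hf1 : Coalgebra.counit (R := k) f = 1) :
    ∃ (χ' : A ⧸ I) (b : A), χ * χ' = 1 ∧ b ∈ semi (k := k) I χ' ∧ Coalgebra.counit (R := k) b = 1 := by
  classical
  letI cA : HopfRep.Comod k A A := HopfRep.Comod.regular k A
  let U := orbitSub k A f
  have hUs : HopfRep.IsSubcomod (k := k) (A := A) U := isSubcomod_orbitSub f
  haveI : Module.Finite k U := finite_orbitSub f
  have hUle : U ≤ semi (k := k) I χ := fun x hx => by
    obtain ⟨φ, rfl⟩ := mem_orbitSub_iff.1 hx
    exact IsSubcomod.actL_mem hs φ hf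
  letI cU : HopfRep.Comod k A U := ComodSub.Comod.restr cA U hUs
  let b := Module.finBasis k U
  have hpos : 0 < Module.finrank k U := by
    haveI : Nontrivial U := ⟨⟨⟨f, self_mem_orbitSub f⟩, 0, fun h => by
      have h' : f = 0 := congrArg Subtype.val h
      rw [h', map_zero] at hf1
      exact zero_ne_one hf1⟩⟩
    exact Module.finrank_pos
  let M := matrixOf (A := A) b
  have hM : IsComatrix (k := k) M := isComatrix_matrixOf b
  let π := Ideal.Quotient.mkₐ k I
  have hπM : ∀ i j, π (M i j) = if i = j then χ else 0 := by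
    intro i j
    have hm := (mem_semi I).1 (hUle (b j).2)
    have h2 : coactR (k := k) I (b j : A) = π.toLinearMap.lTensor A (U.subtype.rTensor A (cU.coact (b j))) := by
      rw [coactR_apply, ComodSub.restr_coact_coe]
      rfl
    have hinj : Function.Injective (U.subtype.rTensor (A ⧸ I)) :=
      Module.Flat.rTensor_preserves_injective_linearMap _ U.injective_subtype
    have h3 : π.toLinearMap.lTensor U (cU.coact (b j)) = b j ⊗ₜ[k] χ := by
      apply hinj
      rw [← LinearMap.comp_apply, LinearMap.rTensor_comp_lTensor, ← LinearMap.lTensor_comp_rTensor,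
        LinearMap.comp_apply, ← h2, hm]
      rfl
    have h4 := congrArg (slL (b.coord i)) h3
    rw [coact_basis b, map_sum, map_sum, slL_tmul] at h4
    simp only [LinearMap.lTensor_tmul, slL_tmul, Module.Basis.coord_apply, Module.Basis.repr_self,
      Finsupp.single_apply, ite_smul, one_smul, zero_smul, Finset.sum_ite_eq', Finset.mem_univ, if_true] at h4
    show π (M i j) = _
    refine h4.trans ?_
    by_cases hij : i = j
    · subst hij; simp
    · simp [hij, Ne.symm hij]
  let i : Fin (Module.finrank k U) := ⟨0, hpos⟩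
  let χ' : A ⧸ I := π (HopfAlgebraStruct.antipode k (M i i))
  refine ⟨χ', HopfAlgebraStruct.antipode k (M i i), ?_, ?_, ?_⟩
  · have h := hM.inv_mul π i i
    simp only [hπM, mul_ite, mul_zero, Finset.sum_ite_eq', Finset.mem_univ, if_true] at h
    rw [mul_comm]; exact h
  · rw [mem_semi, coactR_apply, Groth.Agent.HopfLib.comul_antipode, hM.comul_eq, map_sum, map_sum, map_sum]
    simp only [TensorProduct.comm_tmul, TensorProduct.map_tmul, LinearMap.lTensor_tmul]
    have hS : ∀ l, π.toLinearMap (HopfAlgebraStruct.antipode k (M i l)) = if i = l then χ' else 0 := by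
      intro l
      split_ifs with h
      · subst h; rfl
      · rw [AlgHom.toLinearMap_apply, show π (HopfAlgebraStruct.antipode k (M i l)) =
          Bialgebra.Quotient.mkBialgHom (R := k) I (HopfAlgebraStruct.antipode k (M i l)) from rfl,
          HopfFF.map_antipode, show Bialgebra.Quotient.mkBialgHom (R := k) I (M i l) = π (M i l) from rfl,
          hπM, if_neg h, map_zero]
    rw [Finset.sum_eq_single i]
    · rw [hS, if_pos rfl]
    · intro l _ hl
      rw [hS, if_neg (Ne.symm hl), tmul_zero]
    · simp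
  · rw [HopfAlgebra.counit_antipode, hM.counit_eq, if_pos rfl]

end Groth.Agent.NormalQuot
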