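import Groth.Agent.NormalQuot.Basic
import Mathlib.LinearAlgebra.Matrix.Adjugate
import Mathlib.LinearAlgebra.Dual.Lemmas

/-!
# Semi-invariant minors cutting out a closed subgroup
-/

set_option autoImplicit false
universe u v

open TensorProduct

namespace Groth.Agent.NormalQuot

open Groth.Agent.Comod

variable {k : Type u} [Field k] {A : Type u} [CommRing A] [HopfAlgebra k A] (I : Ideal A) [I.IsHopfIdeal k]

/-- Cramer's rule, read on rows -/
theorem det_smul_row {R : Type*} [CommRing R] {n : Type*} [Fintype n] [DecidableEq n] (N : Matrix n n R)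
    (row : n → R) (j : n) : N.det * row j = ∑ i, (N.updateRow i row).det * N i j := by
  have h : ∀ i, (N.updateRow i row).det = Matrix.vecMul row N.adjugate i := by
    intro i
    rw [← Matrix.det_transpose, ← Matrix.updateCol_transpose, ← Matrix.cramer_apply,
      Matrix.cramer_eq_adjugate_mulVec, ← Matrix.adjugate_transpose, Matrix.mulVec_transpose]
  have h2 : Matrix.vecMul (Matrix.vecMul row N.adjugate) N = N.det • row := by
    rw [Matrix.vecMul_vecMul, Matrix.adjugate_mul, Matrix.vecMul_smul, Matrix.vecMul_one]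
  calc N.det * row j = Matrix.vecMul (Matrix.vecMul row N.adjugate) N j := by rw [h2]; rfl
    _ = ∑ i, (N.updateRow i row).det * N i j := by
        simp only [h]; rfl

theorem exists_data (s : Finset A) (hs : ∀ x ∈ s, x ∈ I) :
    ∃ (χ : A ⧸ I) (f₀ : A), f₀ ∈ semi (k := k) I χ ∧ Coalgebra.counit (R := k) f₀ = 1 ∧
      ∀ x ∈ s, f₀ * x ∈ Ideal.span {f : A | f ∈ semi (k := k) I χ ∧ Coalgebra.counit (R := k) f = 0} := by
  classical
  letI cA : HopfRep.Comod k A A := HopfRep.Comod.regular k A
  obtain ⟨W, hfin, hsW, hWs⟩ := exists_finite_subcomod (k := k) (A := A) (V := A) (s : Set A) s.finite_toSet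
  haveI := hfin
  letI cW : HopfRep.Comod k A W := ComodSub.Comod.restr cA W hWs
  obtain ⟨d, e, b, hbL, hcoord⟩ := exists_basis_adapted (k := k) ((I.restrictScalars k).comap W.subtype)
  let a := matrixOf (A := A) b
  have ha : IsComatrix (k := k) a := isComatrix_matrixOf b
  let π := Ideal.Quotient.mkₐ k I
  have hdec : ∀ j, Coalgebra.comul (R := k) (b j : A) = ∑ l, (b l : A) ⊗ₜ[k] a l j := by
    intro j
    rw [show Coalgebra.comul (R := k) (b j : A) = W.subtype.rTensor A (cW.coact (b j)) from
      (ComodSub.restr_coact_coe cA W hWs (b j)).symm, coact_basis b, map_sum]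
    rfl
  have hzero : ∀ (j : Fin d) (l : Fin e), π (a (Sum.inr l) (Sum.inl j)) = 0 := by
    intro j l
    have hinj : Function.Injective (((I.restrictScalars k).comap W.subtype).liftQ
        (π.toLinearMap ∘ₗ W.subtype) fun w hw => Ideal.Quotient.eq_zero_iff_mem.2 hw) :=
      LinearMap.ker_eq_bot.1 (Submodule.ker_liftQ_eq_bot _ _ _ fun w hw => Ideal.Quotient.eq_zero_iff_mem.1 hw)
    obtain ⟨r, hr⟩ := LinearMap.exists_leftInverse_of_injective _ (LinearMap.ker_eq_bot.2 hinj)
    let φ : A ⧸ I →ₗ[k] k := (((I.restrictScalars k).comap W.subtype).liftQ (b.coord (Sum.inr l))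
      fun w hw => hcoord w hw l) ∘ₗ r
    have hφ : ∀ w : W, φ (π (w : A)) = b.coord (Sum.inr l) w := by
      intro w
      have := LinearMap.congr_fun hr (Submodule.Quotient.mk w)
      simp only [LinearMap.comp_apply, Submodule.liftQ_apply, LinearMap.id_apply] at this
      show (((I.restrictScalars k).comap W.subtype).liftQ (b.coord (Sum.inr l)) fun w hw => hcoord w hw l) (r (π (w : A))) = _
      rw [show r (π (w : A)) = Submodule.Quotient.mk w from this, Submodule.liftQ_apply]
    have h0 : TensorProduct.map π.toLinearMap π.toLinearMap (Coalgebra.comul (R := k) (b (Sum.inl j) : A)) = 0 := by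
      rw [show TensorProduct.map π.toLinearMap π.toLinearMap (Coalgebra.comul (R := k) (b (Sum.inl j) : A)) =
        Coalgebra.comul (R := k) (π (b (Sum.inl j) : A)) from
        CoalgHomClass.map_comp_comul_apply (Bialgebra.Quotient.mkBialgHom I) _,
        show π (b (Sum.inl j) : A) = 0 from Ideal.Quotient.eq_zero_iff_mem.2 (hbL j), map_zero]
    have h1 := congrArg (slL φ) h0
    rw [hdec, map_sum, map_sum, map_zero] at h1
    simp only [TensorProduct.map_tmul, slL_tmul, AlgHom.toLinearMap_apply, hφ, Module.Basis.coord_apply,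
      Module.Basis.repr_self, Finsupp.single_apply, ite_smul, one_smul, zero_smul, Finset.sum_ite_eq',
      Finset.mem_univ, if_true] at h1
    exact h1
  let N : (Fin d → Fin d ⊕ Fin e) → Matrix (Fin d) (Fin d) A := fun σ => Matrix.of fun i j => a (σ i) (Sum.inl j)
  let M₀ : Matrix (Fin d) (Fin d) (A ⧸ I) := Matrix.of fun i j => π (a (Sum.inl i) (Sum.inl j))
  have hsemi : ∀ σ, (N σ).det ∈ semi (k := k) I M₀.det := by
    intro σ
    rw [mem_semi, AlgHom.map_det]
    have e1 : (coactR (k := k) I).mapMatrix (N σ) =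
        (Algebra.TensorProduct.includeLeft : A →ₐ[k] A ⊗[k] (A ⧸ I)).mapMatrix (N σ) *
          (Algebra.TensorProduct.includeRight : A ⧸ I →ₐ[k] A ⊗[k] (A ⧸ I)).mapMatrix M₀ := by
      ext i j
      rw [AlgHom.mapMatrix_apply, Matrix.map_apply, coactR_apply, Matrix.mul_apply]
      show _ = ∑ l, (a (σ i) (Sum.inl l) ⊗ₜ[k] (1 : A ⧸ I)) * ((1 : A) ⊗ₜ[k] π (a (Sum.inl l) (Sum.inl j)))
      simp only [N, Matrix.of_apply]
      rw [ha.comul_eq, map_sum, Fintype.sum_sum_type]
      simp only [LinearMap.lTensor_tmul, Algebra.TensorProduct.tmul_mul_tmul, mul_one, one_mul]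
      have : ∀ l, π.toLinearMap (a (Sum.inr l) (Sum.inl j)) = 0 := fun l => hzero j l
      simp only [π] at this ⊢
      simp only [this, tmul_zero, Finset.sum_const_zero, add_zero]
      rfl
    rw [e1, Matrix.det_mul, ← AlgHom.map_det, ← AlgHom.map_det]
    simp
  have hcounit : ∀ σ, Coalgebra.counit (R := k) (N σ).det =
      Matrix.det (Matrix.of fun i j => if σ i = Sum.inl j then (1 : k) else 0) := by
    intro σ
    rw [show Coalgebra.counit (R := k) (N σ).det = Bialgebra.counitAlgHom k A (N σ).det from rfl, AlgHom.map_det]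
    congr 1
    ext i j
    exact ha.counit_eq _ _
  refine ⟨M₀.det, (N Sum.inl).det, hsemi _, ?_, fun x hx => ?_⟩
  · rw [hcounit]
    convert Matrix.det_one (R := k) (n := Fin d)
    ext i j
    simp [Matrix.one_apply]
  let J := Ideal.span {f : A | f ∈ semi (k := k) I M₀.det ∧ Coalgebra.counit (R := k) f = 0}
  have hrow : ∀ (l : Fin e) (j : Fin d), (N Sum.inl).det * a (Sum.inr l) (Sum.inl j) ∈ J := by
    intro l j
    refine (det_smul_row (N Sum.inl) (fun j => a (Sum.inr l) (Sum.inl j)) j).symm ▸ Ideal.sum_mem _ fun i _ => ?_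
    refine Ideal.mul_mem_right _ _ (Ideal.subset_span ?_)
    have e1 : (N Sum.inl).updateRow i (fun j => a (Sum.inr l) (Sum.inl j)) =
        N (Function.update Sum.inl i (Sum.inr l)) := by
      ext i' j'
      by_cases h : i' = i
      · subst h; simp [N]
      · simp [N, Matrix.updateRow_ne h, Function.update_of_ne h]
    rw [e1]
    refine ⟨hsemi _, (hcounit _).trans (Matrix.det_eq_zero_of_row_eq_zero i fun j' => ?_)⟩
    simp
  have hbI : ∀ j, (N Sum.inl).det * (b (Sum.inl j) : A) ∈ J := by
    intro j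
    have h2 := congrArg (slL (Coalgebra.counit (R := k) (A := A))) (hdec (Sum.inl j))
    rw [show slL (Coalgebra.counit (R := k) (A := A)) (Coalgebra.comul (R := k) (b (Sum.inl j) : A)) = (b (Sum.inl j) : A)
      by simp [slL, Coalgebra.rTensor_counit_comul], map_sum] at h2
    rw [h2, Finset.mul_sum]
    refine Ideal.sum_mem _ fun l _ => ?_
    rw [slL_tmul, mul_smul_comm]
    rcases l with l | l
    · rw [show Coalgebra.counit (R := k) (b (Sum.inl l) : A) = 0 from counit_eq_zero I (hbL l), zero_smul]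
      exact zero_mem _
    · exact Submodule.smul_of_tower_mem _ _ (hrow l j)
  have hxw : (⟨x, hsW hx⟩ : W) ∈ (I.restrictScalars k).comap W.subtype := hs x hx
  have hx2 : x = ∑ j, b.coord (Sum.inl j) ⟨x, hsW hx⟩ • (b (Sum.inl j) : A) := by
    have h3 := congrArg Subtype.val (b.sum_repr ⟨x, hsW hx⟩)
    rw [Fintype.sum_sum_type] at h3
    simp only [Submodule.coe_add, Submodule.coe_sum, Submodule.coe_smul] at h3
    have h4 : ∀ l, b.repr ⟨x, hsW hx⟩ (Sum.inr l) = 0 := fun l => hcoord _ hxw l
    simp only [h4, zero_smul, Finset.sum_const_zero, add_zero] at h3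
    exact h3.symm
  rw [hx2, Finset.mul_sum]
  exact Ideal.sum_mem _ fun j _ => by rw [mul_smul_comm]; exact Submodule.smul_of_tower_mem _ _ (hbI j)

end Groth.Agent.NormalQuot
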