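import Groth.Agent.NormalQuot.AlgClosed
import Groth.Agent.HopfFF.SubHopf
import Mathlib.FieldTheory.IsAlgClosed.AlgebraicClosure
import Mathlib.RingTheory.Bialgebra.TensorProduct
import Mathlib.RingTheory.HopfAlgebra.TensorProduct
import Mathlib.RingTheory.Flat.FaithfullyFlat.Algebra

/-!
# A normal Hopf ideal is generated by the augmentation ideal of its invariants
-/

set_option autoImplicit false
universe u v

open TensorProduct WithConv

namespace Groth.Agent.NormalQuot

open Groth.Agent.HopfFF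

section Natural

variable {k : Type u} [Field k] {A : Type u} [CommRing A] [HopfAlgebra k A]
  {B : Type u} [CommRing B] [HopfAlgebra k B] (φ : B →ₐc[k] A) (I : Ideal A) [I.IsHopfIdeal k]
  (J : Ideal B) [J.IsHopfIdeal k] (ι : B ⧸ J →ₐ[k] A ⧸ I)
  (hι : ∀ b, ι (Ideal.Quotient.mk J b) = Ideal.Quotient.mk I (φ b))

omit [I.IsHopfIdeal k] [J.IsHopfIdeal k] in
theorem preComp_inv' {T : Type*} [CommRing T] [Algebra k T] (x : WithConv (A →ₐ[k] T)) :
    preComp φ (inv' x) = inv' (preComp φ x) := by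
  refine (left_inv_eq_right_inv ?_ (mul_inv' (preComp φ x)))
  rw [← map_mul, inv'_mul, map_one]

include hι in
theorem isConjStable_comap (hI : IsConjStable k I) (hinjι : Function.Injective ι) (hinjφ : Function.Injective φ)
    (hJ : ∀ b, b ∈ J → φ b ∈ I) : IsConjStable k J := by
  intro b hb
  let Φ : (B ⧸ J) ⊗[k] B →ₐ[k] (A ⧸ I) ⊗[k] A := Algebra.TensorProduct.map ι (φ : B →ₐ[k] A)
  have hΦ : Function.Injective Φ := by
    have e : ∀ z, Φ z = (φ : B →ₐ[k] A).toLinearMap.lTensor (A ⧸ I) (ι.toLinearMap.rTensor B z) := by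
      intro z
      induction z with
      | zero => simp
      | tmul p q => simp [Φ]
      | add y z hy hz => simp only [map_add, hy, hz]
    intro x y hxy
    rw [e, e] at hxy
    exact Module.Flat.rTensor_preserves_injective_linearMap _ hinjι
      (Module.Flat.lTensor_preserves_injective_linearMap _ hinjφ hxy)
  have h : FinHopf.postComp (C := B) Φ (conjPt J) = preComp φ (conjPt I) := by
    rw [conjPt, conjPt, map_mul, map_mul, map_mul, map_mul, postComp_inv', preComp_inv']
    refine congrArg₂ (· * ·) (congrArg₂ (· * ·) (congrArg inv' ?_) ?_) ?_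
    · exact WithConv.ofConv_injective (AlgHom.ext fun c => by simp [Φ])
    · exact WithConv.ofConv_injective (AlgHom.ext fun c => by simp [Φ, ofQuot, hι])
    · exact WithConv.ofConv_injective (AlgHom.ext fun c => by simp [Φ])
  apply hΦ
  rw [map_zero]
  refine Eq.trans (DFunLike.congr_fun (congrArg WithConv.ofConv h) b) ?_
  exact hI _ (hJ b hb)

include hι in
omit [I.IsHopfIdeal k] [J.IsHopfIdeal k] in
theorem coactR_natural (b : B) :
    coactR (k := k) I (φ b) = Algebra.TensorProduct.map (φ : B →ₐ[k] A) ι (coactR (k := k) J b) := by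
  rw [coactR_apply, coactR_apply, ← CoalgHomClass.map_comp_comul_apply φ b]
  generalize Coalgebra.comul (R := k) b = z
  induction z with
  | zero => simp
  | tmul p q => simp [hι]
  | add y z hy hz => simp only [map_add, hy, hz]

include hι in
omit [I.IsHopfIdeal k] [J.IsHopfIdeal k] in
theorem map_mem_invQ {b : B} (hb : b ∈ invQ (k := k) J) : φ b ∈ invQ (k := k) I := by
  rw [mem_invQ, mem_semi] at hb ⊢
  rw [coactR_natural φ I J ι hι, hb]
  simp

end Natural

section Descent

variable {k : Type u} [Field k] (K : Type u) [Field K] [Algebra k K]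
  {A : Type u} [CommRing A] [HopfAlgebra k A] (I : Ideal A) [I.IsHopfIdeal k]

/-- restriction of points along extension of the ground field -/
noncomputable def restrPt {T : Type*} [CommRing T] [Algebra k T] [Algebra K T] [IsScalarTower k K T] :
    WithConv (K ⊗[k] A →ₐ[K] T) →* WithConv (A →ₐ[k] T) where
  toFun x := toConv ((x.ofConv.restrictScalars k).comp Algebra.TensorProduct.includeRight)
  map_one' := by
    apply WithConv.ofConv_injective
    ext a
    show (1 : WithConv (K ⊗[k] A →ₐ[K] T)).ofConv (1 ⊗ₜ[k] a) = _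
    rw [AlgHom.convOne_def, AlgHom.convOne_def]
    simp [Algebra.ofId_apply, TensorProduct.counit_tmul, Algebra.smul_def, ← IsScalarTower.algebraMap_apply]
  map_mul' x y := by
    apply WithConv.ofConv_injective
    ext a
    show (x * y).ofConv (1 ⊗ₜ[k] a) = _
    rw [AlgHom.convMul_apply, AlgHom.convMul_apply, TensorProduct.comul_tmul]
    generalize Coalgebra.comul (R := k) a = z
    induction z with
    | zero => simp
    | tmul p q => simp
    | add y z hy hz => simp only [tmul_add, map_add, hy, hz]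

theorem conj_restr_apply {T : Type u} [CommRing T] [Algebra k T] [Algebra K T] [IsScalarTower k K T]
    (hI : IsConjStable k I) (x h : WithConv (K ⊗[k] A →ₐ[K] T))
    (hk : ∀ b ∈ I, h.ofConv ((1 : K) ⊗ₜ[k] b) = 0) (a : A) (ha : a ∈ I) :
    (inv' x * h * x).ofConv ((1 : K) ⊗ₜ[k] a) = 0 := by
  have e : restrPt (k := k) K (inv' x) = inv' (restrPt (k := k) K x) := by
    refine left_inv_eq_right_inv ?_ (mul_inv' _)
    rw [← map_mul, inv'_mul, map_one]
  have hk' : ∀ b ∈ I, (restrPt (k := k) K h).ofConv b = 0 := hk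
  have h0 := DFunLike.congr_fun (congrArg WithConv.ofConv
    (postComp_conjPt (k := k) I (Ideal.Quotient.liftₐ I _ hk') (restrPt (k := k) K x).ofConv)) a
  rw [FinHopf.postComp_apply, hI a ha, map_zero] at h0
  show (restrPt (k := k) K (inv' x * h * x)).ofConv a = 0
  rw [map_mul, map_mul, e]
  exact h0.symm

theorem le_augIdealSpan_of_finiteType [Algebra.FiniteType k A] (hI : IsConjStable k I) :
    I ≤ SGA3.augIdealSpan k A (invQ (k := k) I) := by
  classical
  let K := AlgebraicClosure k
  let q : K ⊗[k] A →ₐc[K] K ⊗[k] (A ⧸ I) :=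
    Bialgebra.TensorProduct.map (BialgHom.id K K) (Bialgebra.Quotient.mkBialgHom (R := k) I)
  let IK : Ideal (K ⊗[k] A) := RingHom.ker (q : K ⊗[k] A →ₐ[K] K ⊗[k] (A ⧸ I))
  haveI : IK.IsHopfIdeal K := isHopfIdeal_ker q
  let π : A →ₗ[k] A ⧸ I := (Ideal.Quotient.mkₐ k I).toLinearMap
  have hqe : ∀ z, q z = π.lTensor K z := by
    intro z
    induction z with
    | zero => simp
    | tmul p a => simp [q, π]
    | add y z hy hz => simp only [map_add, hy, hz]
  have hexI : Function.Exact ((I.restrictScalars k).subtype) π :=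
    LinearMap.exact_iff.2 (by ext x; simp [π, Ideal.Quotient.eq_zero_iff_mem])
  -- conjugation stability
  have hIK : IsConjStable K IK := by
    intro z hz
    obtain ⟨y, rfl⟩ := (Module.Flat.lTensor_exact K hexI z).1 ((hqe z).symm.trans hz)
    induction y with
    | zero => simp
    | add y w hy hw =>
      rw [map_add, map_add]
      have hy' : q ((I.restrictScalars k).subtype.lTensor K y) = 0 := by
        rw [hqe]; exact (Module.Flat.lTensor_exact K hexI _).2 ⟨y, rfl⟩
      have hw' : q ((I.restrictScalars k).subtype.lTensor K w) = 0 := by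
        rw [hqe]; exact (Module.Flat.lTensor_exact K hexI _).2 ⟨w, rfl⟩
      rw [hy hy', hw hw', add_zero]
    | tmul c a =>
      obtain ⟨a, ha⟩ := a
      rw [LinearMap.lTensor_tmul, show c ⊗ₜ[k] ((I.restrictScalars k).subtype ⟨a, ha⟩) = c • ((1 : K) ⊗ₜ[k] a) by
        simp [TensorProduct.smul_tmul'], map_smul]
      have e : (conjPt (k := K) IK).ofConv ((1 : K) ⊗ₜ[k] a) = 0 := by
        refine conj_restr_apply K I (T := ((K ⊗[k] A) ⧸ IK) ⊗[K] (K ⊗[k] A)) hI _ _ (fun b hb => ?_) a ha
        show (Ideal.Quotient.mkₐ K IK ((1 : K) ⊗ₜ[k] b)) ⊗ₜ[K] (1 : K ⊗[k] A) = 0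
        rw [show Ideal.Quotient.mkₐ K IK ((1 : K) ⊗ₜ[k] b) = 0 from Ideal.Quotient.eq_zero_iff_mem.2 (by
          show q ((1 : K) ⊗ₜ[k] b) = 0
          rw [hqe]; simp [π, Ideal.Quotient.eq_zero_iff_mem.2 hb]), zero_tmul]
      rw [e, smul_zero]
  haveI : Algebra.FiniteType K (K ⊗[k] A) := inferInstance
  have hK := le_augIdealSpan_of_isAlgClosed (k := K) IK hIK
  intro x hx
  have h1 : (1 : K) ⊗ₜ[k] x ∈ SGA3.augIdealSpan K (K ⊗[k] A) (invQ (k := K) IK) := hK (by
    show q ((1 : K) ⊗ₜ[k] x) = 0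
    rw [hqe]; simp [π, Ideal.Quotient.eq_zero_iff_mem.2 hx])
  let J := SGA3.augIdealSpan k A (invQ (k := k) I)
  let π' : A →ₗ[k] A ⧸ J := (Ideal.Quotient.mkₐ k J).toLinearMap
  -- invariants after extension come from invariants
  have hQ : ∀ z ∈ invQ (k := K) IK, Coalgebra.counit (R := K) z = 0 → π'.lTensor K z = 0 := by
    intro z hz hz0
    rw [mem_invQ, mem_semi] at hz
    let L : A →ₗ[k] A ⊗[k] (A ⧸ I) :=
      (coactR (k := k) I).toLinearMap - (TensorProduct.mk k A (A ⧸ I)).flip 1
    have hexQ : Function.Exact (semi (k := k) I 1).subtype L :=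
      LinearMap.exact_iff.2 (Submodule.range_subtype _).symm
    let j : (K ⊗[k] A) ⧸ IK →ₐ[K] K ⊗[k] (A ⧸ I) :=
      Ideal.Quotient.liftₐ IK (q : K ⊗[k] A →ₐ[K] K ⊗[k] (A ⧸ I)) fun w hw => hw
    let Ψ : (K ⊗[k] A) ⊗[K] ((K ⊗[k] A) ⧸ IK) →ₐ[K] K ⊗[k] (A ⊗[k] (A ⧸ I)) :=
      Algebra.TensorProduct.lift
        (Algebra.TensorProduct.map (AlgHom.id K K) (Algebra.TensorProduct.includeLeft : A →ₐ[k] A ⊗[k] (A ⧸ I)))
        ((Algebra.TensorProduct.map (AlgHom.id K K) (Algebra.TensorProduct.includeRight : A ⧸ I →ₐ[k] A ⊗[k] (A ⧸ I))).comp j)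
        fun x y => Commute.all (S := K ⊗[k] (A ⊗[k] (A ⧸ I))) _ _
    have hΨ : ∀ w, Ψ (coactR (k := K) IK w) = (coactR (k := k) I).toLinearMap.lTensor K w := by
      intro w
      induction w with
      | zero => simp
      | add y w hy hw => simp only [map_add, hy, hw]
      | tmul c a =>
        rw [show c ⊗ₜ[k] a = c • ((1 : K) ⊗ₜ[k] a) by simp [TensorProduct.smul_tmul'], map_smul, map_smul]
        rw [show (coactR (k := k) I).toLinearMap.lTensor K (c • ((1 : K) ⊗ₜ[k] a)) =
          c • (coactR (k := k) I).toLinearMap.lTensor K ((1 : K) ⊗ₜ[k] a) by simp [TensorProduct.smul_tmul']]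
        congr 1
        rw [LinearMap.lTensor_tmul, AlgHom.toLinearMap_apply, coactR_apply, coactR_apply, TensorProduct.comul_tmul]
        generalize Coalgebra.comul (R := k) a = y
        induction y with
        | zero => simp
        | tmul r s => simp [Ψ, j, q]
        | add y w hy hw => simp only [tmul_add, map_add, hy, hw]
    have h2 : L.lTensor K z = 0 := by
      have h3 := congrArg Ψ hz
      rw [hΨ] at h3
      rw [LinearMap.lTensor_sub, LinearMap.sub_apply, sub_eq_zero, h3]
      have e : ∀ w : K ⊗[k] A, Ψ (w ⊗ₜ[K] 1) = ((TensorProduct.mk k A (A ⧸ I)).flip 1).lTensor K w := by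
        intro w
        induction w with
        | zero => simp
        | tmul p a =>
          simp [Ψ, ← Algebra.TensorProduct.one_def]
          exact @mul_one (K ⊗[k] (A ⊗[k] (A ⧸ I))) _ _
        | add y w hy hw => simp only [add_tmul, map_add, hy, hw]
      exact e z
    obtain ⟨y, rfl⟩ := (Module.Flat.lTensor_exact K hexQ z).1 h2
    have e : ∀ y, π'.lTensor K ((semi (k := k) I 1).subtype.lTensor K y) =
        (Coalgebra.counit (R := K) ((semi (k := k) I 1).subtype.lTensor K y)) ⊗ₜ[k] (π' 1) := by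
      intro y
      induction y with
      | zero => simp
      | add y w hy hw => simp only [map_add, add_tmul, hy, hw]
      | tmul c b =>
        obtain ⟨b, hb⟩ := b
        have hbJ : b - algebraMap k A (Coalgebra.counit (R := k) b) ∈ J :=
          Ideal.subset_span ⟨sub_mem ((mem_invQ I).2 hb) (Subalgebra.algebraMap_mem _ _), by simp⟩
        rw [LinearMap.lTensor_tmul, LinearMap.lTensor_tmul, TensorProduct.counit_tmul, CommSemiring.counit_apply]
        simp only [Submodule.subtype_apply]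
        have hb' : π' b = Coalgebra.counit (R := k) b • π' 1 := by
          show Ideal.Quotient.mk J b = Coalgebra.counit (R := k) b • Ideal.Quotient.mk J 1
          rw [Ideal.Quotient.eq.2 hbJ, map_one, Ideal.Quotient.mk_algebraMap,
            Algebra.algebraMap_eq_smul_one]
        rw [hb', TensorProduct.tmul_smul, TensorProduct.smul_tmul']
    rw [e, hz0, zero_tmul]
  have h4 : π'.lTensor K ((1 : K) ⊗ₜ[k] x) = 0 := by
    have e : ∀ w, π'.lTensor K w = Algebra.TensorProduct.map (AlgHom.id K K) (Ideal.Quotient.mkₐ k J) w := by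
      intro w
      induction w with
      | zero => simp
      | tmul p a => simp [π']
      | add y w hy hw => simp only [map_add, hy, hw]
    rw [e]
    refine (Ideal.span_le (I := RingHom.ker (Algebra.TensorProduct.map (AlgHom.id K K) (Ideal.Quotient.mkₐ k J)))).2 ?_ h1
    rintro w ⟨hw, hw0⟩
    show Algebra.TensorProduct.map (AlgHom.id K K) (Ideal.Quotient.mkₐ k J) w = 0
    rw [← e]
    exact hQ w hw hw0
  have h5 : π' x = 0 := Module.FaithfullyFlat.tensorProduct_mk_injective (A := k) (B := K) (A ⧸ J)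
    (show (1 : K) ⊗ₜ[k] π' x = (1 : K) ⊗ₜ[k] 0 by rw [tmul_zero]; exact h4)
  exact Ideal.Quotient.eq_zero_iff_mem.1 h5

end Descent

/-- a normal Hopf ideal is generated by the augmentation ideal of its invariants -/
theorem eq_augIdealSpan {k : Type u} [Field k] {A : Type u} [CommRing A] [HopfAlgebra k A] (I : Ideal A)
    [I.IsHopfIdeal k] (hI : IsConjStable k I) : I = SGA3.augIdealSpan k A (invQ (k := k) I) := by
  classical
  refine le_antisymm (fun x hx => ?_) (augIdealSpan_le I)
  obtain ⟨n, π₀, hπ₀⟩ := exists_glHom_range k A {x}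
  haveI := isHopfIdeal_ker π₀
  let φ := kerLift π₀
  have hφ : Function.Injective φ := kerLift_injective π₀
  obtain ⟨y, hy⟩ := hπ₀ x (Finset.mem_singleton_self x)
  let x₀ := Ideal.Quotient.mk (RingHom.ker (π₀ : CoordGrp.GLn n k →ₐ[k] A)) y
  have hx₀ : φ x₀ = x := hy
  let q := (Bialgebra.Quotient.mkBialgHom (R := k) I).comp φ
  let J := RingHom.ker (q : (CoordGrp.GLn n k ⧸ RingHom.ker (π₀ : CoordGrp.GLn n k →ₐ[k] A)) →ₐ[k] A ⧸ I)
  haveI : J.IsHopfIdeal k := isHopfIdeal_ker q
  let ι := Ideal.kerLiftAlg (q : (CoordGrp.GLn n k ⧸ RingHom.ker (π₀ : CoordGrp.GLn n k →ₐ[k] A)) →ₐ[k] A ⧸ I)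
  have hι : ∀ b, ι (Ideal.Quotient.mk J b) = Ideal.Quotient.mk I (φ b) := fun b => rfl
  have hJI : ∀ b, b ∈ J → φ b ∈ I := fun b hb => Ideal.Quotient.eq_zero_iff_mem.1 hb
  have hJ := isConjStable_comap φ I J ι hι hI (Ideal.kerLiftAlg_injective _) hφ hJI
  have hx₀J : x₀ ∈ J := by
    show Ideal.Quotient.mk I (φ x₀) = 0
    rw [hx₀]; exact Ideal.Quotient.eq_zero_iff_mem.2 hx
  haveI : Algebra.FiniteType k (CoordGrp.GLb n k) :=
    inferInstanceAs (Algebra.FiniteType k (MvPolynomial (CoordGrp.GLPoly.Idx n) k))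
  haveI : Algebra.FiniteType k (CoordGrp.GLn n k) :=
    Algebra.FiniteType.of_surjective (CoordGrp.GLn.mk n k) Ideal.Quotient.mk_surjective
  haveI : Algebra.FiniteType k (CoordGrp.GLn n k ⧸ RingHom.ker (π₀ : CoordGrp.GLn n k →ₐ[k] A)) :=
    Algebra.FiniteType.of_surjective (Ideal.Quotient.mkₐ k _) Ideal.Quotient.mk_surjective
  have h := le_augIdealSpan_of_finiteType J hJ hx₀J
  rw [← hx₀]
  refine (Ideal.span_le (I := (SGA3.augIdealSpan k A (invQ (k := k) I)).comap (φ : _ →+* A))).2 ?_ h
  rintro b ⟨hb, hb0⟩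
  refine Ideal.subset_span ⟨map_mem_invQ φ I J ι hι hb, ?_⟩
  show Coalgebra.counit (R := k) (φ b) = 0
  rw [CoalgHomClass.counit_comp_apply, hb0]

end Groth.Agent.NormalQuot
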